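import Cfsg.Agent.H906.WtTrace
import Cfsg.Agent.H921.SporM24
import Cfsg.Agent.FastGrp
import Cfsg.Agent.Prune
set_option linter.all false

section
prune_inst 0x7ffeeffbeffcabffdfff7e7ffefedfffffbdbfffffdff9cbffe469ffebdf6b82ebe5fb8f8fe858fe1ff7e2bc10f87b53fbffffffea6ffc7ffffdfff45ffbffdfedf7bd0971de9cbe0fbc2fff63f0778e7f3fffffffffffffffffffffffffffbeffffffffffff

-- part: H13/M22/Elts
section
prune_inst 0x20000000000000000000000000000000000000000000000000000000000000000000000000000000000000000000000000000000000000000008000400002000104040009000000000000000000000000000000000000000000000000000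
set_option linter.all false
open scoped Cfsg.Agent.FastGrp

-- part: H13/M22/Gen
section
/-!
# Central extensions acting with scalar kernel: general lemmas (helper13)
-/

set_option autoImplicit false
set_option linter.unusedSectionVars false

namespace Cfsg.Agent.H13.M22

open Module Cfsg.Agent.H906.Wt

universe u

/-- `ρ` faithful, kernel of `φ` central and scalar, of order prime to the characteristic -/
structure Cov {L T Ω V : Type*} [Group L] [Group T] [Field Ω] [AddCommGroup V] [Module Ω V]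
    (φ : L →* T) (ρ : L →* Module.End Ω V) : Prop where
  surj : Function.Surjective φ
  cen : φ.ker ≤ Subgroup.center L
  scal : ∀ z ∈ φ.ker, ∃ c : Ω, ρ z = c • 1
  inj : Function.Injective ρ
  card : (Nat.card φ.ker : Ω) ≠ 0

section basic

variable {L T Ω V : Type*} [Group L] [Group T] [Field Ω] [AddCommGroup V] [Module Ω V]
  {φ : L →* T} {ρ : L →* Module.End Ω V}

lemma Cov.comm (h : Cov φ ρ) {z : L} (hz : z ∈ φ.ker) (g : L) : z * g = g * z :=
  (Subgroup.mem_center_iff.1 (h.cen hz) g).symm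

lemma Cov.exists_eq (_h : Cov φ ρ) {a b : L} (hab : φ a = φ b) : ∃ z ∈ φ.ker, a = z * b :=
  ⟨a * b⁻¹, by rw [MonoidHom.mem_ker, map_mul, map_inv, hab, mul_inv_cancel], by group⟩

lemma trace_conj (s g : L) : LinearMap.trace Ω V (ρ (s * g * s⁻¹)) = LinearMap.trace Ω V (ρ g) := by
  rw [map_mul, LinearMap.trace_mul_comm, ← map_mul]
  congr 2
  group

lemma Cov.central_of_scalar (h : Cov φ ρ) {a : L} {c : Ω} (ha : ρ a = c • 1) (g : L) : a * g = g * a := by
  apply h.inj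
  rw [map_mul, map_mul, ha, smul_mul_assoc, one_mul, mul_smul_comm, mul_one]

/-- commuting elements one of which has non-zero trace lift to commuting elements -/
theorem Cov.comm_of_trace (h : Cov φ ρ) {g k : L} (hc : φ g * φ k = φ k * φ g)
    (ht : LinearMap.trace Ω V (ρ g) ≠ 0) : g * k = k * g := by
  have hz : k * g * k⁻¹ * g⁻¹ ∈ φ.ker := by
    rw [MonoidHom.mem_ker, map_mul, map_mul, map_mul, map_inv, map_inv, ← hc]
    group
  obtain ⟨c, hc'⟩ := h.scal _ hz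
  have h1 : k * g * k⁻¹ = (k * g * k⁻¹ * g⁻¹) * g := by group
  have h2 : LinearMap.trace Ω V (ρ g) = c * LinearMap.trace Ω V (ρ g) := by
    conv_lhs => rw [← trace_conj (ρ := ρ) k g, h1, map_mul, hc', smul_mul_assoc, one_mul, map_smul, smul_eq_mul]
  have h3 : c = 1 := by
    have h4 : (c - 1) * LinearMap.trace Ω V (ρ g) = 0 := by linear_combination -h2
    exact sub_eq_zero.1 ((mul_eq_zero.1 h4).resolve_right ht)
  have h4 : k * g * k⁻¹ * g⁻¹ = 1 := by
    apply h.inj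
    rw [hc', h3, one_smul, map_one]
  have h5 : k * g = (k * g * k⁻¹ * g⁻¹) * (g * k) := by group
  rw [h5, h4, one_mul]

end basic

section weights

variable {L K V : Type*} [Group L] {A : Subgroup L} [Field K] [AddCommGroup V] [Module K V]
  [FiniteDimensional K V] [Finite A] [IsAlgClosed K] (ρ : L →* Module.End K V)

/-- the trace as a sum over weights -/
theorem trace_sum (hcomm : ∀ a ∈ A, ∀ b ∈ A, a * b = b * a) (hcard : (Nat.card A : K) ≠ 0)
    [Fintype (A →* Kˣ)] (a : A) :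
    LinearMap.trace K V (ρ a) = ∑ χ : A →* Kˣ, (finrank K (W (rs ρ A) χ) : K) * (χ a : K) := by
  classical
  have hint := internal ρ hcomm hcard
  have hm : ∀ χ : A →* Kˣ, Set.MapsTo (ρ a) (W (rs ρ A) χ) (W (rs ρ A) χ) := by
    intro χ v hv
    have h1 := mem_W.1 hv a
    change ρ a.1 v = _ at h1
    change ρ a.1 v ∈ W (rs ρ A) χ
    rw [h1]
    exact Submodule.smul_mem _ _ hv
  rw [LinearMap.trace_eq_sum_trace_restrict hint hm]
  apply Finset.sum_congr rfl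
  intro χ _
  have h1 : (ρ a.1).restrict (hm χ) = (χ a : K) • LinearMap.id := by
    apply LinearMap.ext
    intro v
    apply Subtype.ext
    exact mem_W.1 v.2 a
  rw [h1, map_smul, LinearMap.trace_id, smul_eq_mul, mul_comm]

lemma sum_dims (hcomm : ∀ a ∈ A, ∀ b ∈ A, a * b = b * a) (hcard : (Nat.card A : K) ≠ 0)
    [Fintype (A →* Kˣ)] : ∑ χ : A →* Kˣ, finrank K (W (rs ρ A) χ) = finrank K V := by
  apply sum_finrank _ hcard
  intro a b
  change ρ a.1 * ρ b.1 = ρ b.1 * ρ a.1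
  rw [← map_mul, hcomm a.1 a.2 b.1 b.2, map_mul]

lemma sum_dims_le (hcomm : ∀ a ∈ A, ∀ b ∈ A, a * b = b * a) (hcard : (Nat.card A : K) ≠ 0)
    (S : Finset (A →* Kˣ)) : ∑ χ ∈ S, finrank K (W (rs ρ A) χ) ≤ finrank K V := by
  classical
  have hfin := finite_chars (K := K) A
  have : Fintype (A →* Kˣ) := Fintype.ofFinite _
  rw [← sum_dims ρ hcomm hcard]
  exact Finset.sum_le_sum_of_subset (Finset.subset_univ S)

/-- if a set of weights has full dimension, there are no others -/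
lemma bot_of_sum (hcomm : ∀ a ∈ A, ∀ b ∈ A, a * b = b * a) (hcard : (Nat.card A : K) ≠ 0)
    {S : Finset (A →* Kˣ)} (hS : ∑ χ ∈ S, finrank K (W (rs ρ A) χ) = finrank K V) {χ : A →* Kˣ} (hχ : χ ∉ S) :
    finrank K (W (rs ρ A) χ) = 0 := by
  classical
  have h1 := sum_dims_le ρ hcomm hcard (insert χ S)
  rw [Finset.sum_insert hχ, hS] at h1
  omega

/-- the trace over a set of weights of full dimension -/
theorem trace_of_sum (hcomm : ∀ a ∈ A, ∀ b ∈ A, a * b = b * a) (hcard : (Nat.card A : K) ≠ 0)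
    {S : Finset (A →* Kˣ)} (hS : ∑ χ ∈ S, finrank K (W (rs ρ A) χ) = finrank K V) (a : A) :
    LinearMap.trace K V (ρ a) = ∑ χ ∈ S, (finrank K (W (rs ρ A) χ) : K) * (χ a : K) := by
  classical
  have hfin := finite_chars (K := K) A
  have : Fintype (A →* Kˣ) := Fintype.ofFinite _
  rw [trace_sum ρ hcomm hcard]
  symm
  apply Finset.sum_subset (Finset.subset_univ S)
  intro χ _ hχ
  rw [bot_of_sum ρ hcomm hcard hS hχ, Nat.cast_zero, zero_mul]

/-- orbits of weights under an element of prime order -/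
lemma finrank_pow {g : L} (h : Nor A g) (χ : A →* Kˣ) (i : ℕ) :
    finrank K (W (rs ρ A) (((sg K h) ^ i) χ)) = finrank K (W (rs ρ A) χ) := by
  induction i with
  | zero => rfl
  | succ i ih => rw [pow_succ', Equiv.Perm.mul_apply, finrank_sg, ih]

end weights

/-- an element moved by a permutation of prime order has a regular orbit -/
lemma injOn_orbit {X : Type*} (σ : Equiv.Perm X) {r : ℕ} (hr : r.Prime) (hσ : σ ^ r = 1) {x : X} (hx : σ x ≠ x) :
    Set.InjOn (fun i : ℕ => (σ ^ i) x) (Finset.range r) := by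
  have aux : ∀ i j : ℕ, i < j → j < r → (σ ^ i) x ≠ (σ ^ j) x := by
    intro i j hij hj h0
    apply hx
    have h6 : (σ ^ (j - i)) x = x := by
      apply (σ ^ i).injective
      rw [← Equiv.Perm.mul_apply, ← pow_add, Nat.add_sub_cancel' hij.le, h0]
    have hcop : Nat.Coprime (j - i) r := by
      rw [Nat.coprime_comm, hr.coprime_iff_not_dvd]
      intro hd
      exact absurd (Nat.le_of_dvd (by omega) hd) (by omega)
    obtain ⟨m, hm⟩ : ∃ m : ℕ, ∃ q : ℕ, (j - i) * m = 1 + r * q := by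
      obtain ⟨m, hm⟩ := Nat.exists_mul_mod_eq_one_of_coprime hcop hr.one_lt
      exact ⟨m, ((j - i) * m) / r, by rw [← hm.2]; exact (Nat.mod_add_div _ _).symm⟩
    obtain ⟨q, hq⟩ := hm
    have h7 : ∀ m : ℕ, (σ ^ ((j - i) * m)) x = x := by
      intro m
      rw [pow_mul]
      induction m with
      | zero => rfl
      | succ m ih => rw [pow_succ, Equiv.Perm.mul_apply, h6, ih]
    have h8 := h7 m
    rw [hq, pow_add, pow_mul, hσ, one_pow, mul_one, pow_one] at h8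
    exact h8
  intro i hi j hj hij
  rw [Finset.coe_range, Set.mem_Iio] at hi hj
  rcases lt_trichotomy i j with h8 | h8 | h8
  · exact absurd hij (aux i j h8 hj)
  · exact h8
  · exact absurd hij.symm (aux j i h8 hi)

end Cfsg.Agent.H13.M22
end

-- part: H13/M22/Frob7
section
/-!
# Lifts of `2³:7` (helper13)
-/

set_option autoImplicit false
set_option linter.unusedSectionVars false

namespace Cfsg.Agent.H13.M22

open Module Cfsg.Agent.H906.Wt

section card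

variable {L T Ω V : Type*} [Group L] [Group T] [Field Ω] [AddCommGroup V] [Module Ω V]
  {φ : L →* T} {ρ : L →* Module.End Ω V}

/-- subgroups whose image is an `r`-group have order invertible in `Ω` -/
theorem Cov.card_ne [Finite L] (h : Cov φ ρ) {r : ℕ} (hr : r.Prime) (hrΩ : (r : Ω) ≠ 0) (A : Subgroup L)
    (hA : ∀ a ∈ A, ∃ k : ℕ, φ a ^ r ^ k = 1) : (Nat.card A : Ω) ≠ 0 := by
  have : Fact r.Prime := ⟨hr⟩
  have hfT : Finite T := Finite.of_surjective _ h.surj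
  let ψ : A →* T := φ.comp A.subtype
  have h1 : Nat.card A = Nat.card ψ.ker * Nat.card ψ.range := by
    rw [← Subgroup.card_mul_index ψ.ker, Subgroup.index_ker]
  have h2 : IsPGroup r ψ.range := by
    rintro ⟨_, a, rfl⟩
    obtain ⟨k, hk⟩ := hA a.1 a.2
    exact ⟨k, Subtype.ext hk⟩
  obtain ⟨k, hk⟩ := h2.exists_card_eq
  have h3 : Nat.card ψ.ker ∣ Nat.card φ.ker := by
    let f : ψ.ker →* φ.ker :=
      { toFun := fun a => ⟨a.1.1, a.2⟩
        map_one' := rfl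
        map_mul' := fun _ _ => rfl }
    have hf : Function.Injective f := by
      intro a b hab
      exact Subtype.ext (Subtype.ext (congrArg (fun z : φ.ker => z.1) hab))
    exact Subgroup.card_dvd_of_injective f hf
  rw [h1, hk, Nat.cast_mul, Nat.cast_pow]
  refine mul_ne_zero ?_ (pow_ne_zero _ hrΩ)
  intro h0
  obtain ⟨m, hm⟩ := h3
  apply h.card
  rw [hm, Nat.cast_mul, h0, zero_mul]

/-- the characters of weights agree on the kernel -/
lemma Cov.agree_ker (_h : Cov φ ρ) {A : Subgroup L} {χ ψ : A →* Ωˣ} (hχ : W (rs ρ A) χ ≠ ⊥) (hψ : W (rs ρ A) ψ ≠ ⊥)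
    {z : L} (hz : z ∈ φ.ker) (hzA : z ∈ A) : χ ⟨z, hzA⟩ = ψ ⟨z, hzA⟩ := by
  obtain ⟨c, hc⟩ := _h.scal z hz
  have sc : ∀ θ : A →* Ωˣ, W (rs ρ A) θ ≠ ⊥ → (θ ⟨z, hzA⟩ : Ω) = c := by
    intro θ hθ
    obtain ⟨v, hv, hv0⟩ := (Submodule.ne_bot_iff _).1 hθ
    have h1 := mem_W.1 hv ⟨z, hzA⟩
    change ρ z v = _ at h1
    rw [hc, LinearMap.smul_apply, Module.End.one_apply] at h1
    have h2 : (c - θ ⟨z, hzA⟩) • v = 0 := by rw [sub_smul, h1, sub_self]
    exact (sub_eq_zero.1 ((smul_eq_zero.1 h2).resolve_right hv0)).symm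
  exact Units.ext ((sc χ hχ).trans (sc ψ hψ).symm)

lemma closure_comm {L : Type*} [Group L] {S : Set L} (hS : ∀ a ∈ S, ∀ b ∈ S, a * b = b * a) :
    ∀ a ∈ Subgroup.closure S, ∀ b ∈ Subgroup.closure S, a * b = b * a := by
  have h1 : Subgroup.closure S ≤ Subgroup.centralizer S := by
    rw [Subgroup.closure_le]
    intro a ha
    rw [SetLike.mem_coe, Subgroup.mem_centralizer_iff]
    intro b hb
    exact hS b hb a ha
  have h2 : Subgroup.closure S ≤ Subgroup.centralizer (Subgroup.closure S : Set L) := by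
    rw [Subgroup.closure_le]
    intro a ha
    rw [SetLike.mem_coe, Subgroup.mem_centralizer_iff]
    intro b hb
    exact (Subgroup.mem_centralizer_iff.1 (h1 hb) a ha).symm
  intro a ha b hb
  exact (Subgroup.mem_centralizer_iff.1 (h2 ha) b hb).symm

/-- homomorphisms agreeing on generators -/
lemma ext_closure {L M : Type*} [Group L] [Group M] {S : Set L} {θ ψ : Subgroup.closure S →* M}
    (h : ∀ a (ha : a ∈ S), θ ⟨a, Subgroup.subset_closure ha⟩ = ψ ⟨a, Subgroup.subset_closure ha⟩) : θ = ψ := by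
  apply MonoidHom.eq_of_eqOn_dense (Subgroup.closure_closure_coe_preimage (k := S))
  intro a ha
  exact h a.1 ha

end card

/-- the data `2³:7` -/
structure Fr7 {T : Type*} [Group T] (x s : T) : Prop where
  sq : x ^ 2 = 1
  ne : x ≠ 1
  pow : s ^ 7 = 1
  comm : x * (s * x * s⁻¹) = s * x * s⁻¹ * x
  rel : x * (s * x * s⁻¹) = s ^ 3 * x * (s ^ 3)⁻¹

section frob

variable {L T Ω V : Type*} [Group L] [Group T] [Field Ω] [AddCommGroup V] [Module Ω V]
  {φ : L →* T} {ρ : L →* Module.End Ω V}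

/-- conjugates -/
def Xc (g k : L) (i : ℕ) : L := k ^ i * g * (k ^ i)⁻¹

lemma Xc_conj (g k : L) (i j : ℕ) : k ^ i * Xc g k j * (k ^ i)⁻¹ = Xc g k (i + j) := by
  unfold Xc
  rw [pow_add]
  group

/-- structure of the lifted conjugates -/
theorem frob_struct (h : Cov φ ρ) {x s : T} (hf : Fr7 x s) {g k : L} (hg : φ g = x) (hk : φ k = s) :
    (∀ i, Xc g k (i + 7) = Xc g k i) ∧ (∃ z ∈ φ.ker, ∀ i, Xc g k i * Xc g k (i + 1) = z * Xc g k (i + 3)) ∧
      (∀ i j, Xc g k i * Xc g k j = Xc g k j * Xc g k i) ∧ (∀ i, Xc g k i ^ 2 ∈ φ.ker) := by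
  have h7 : k ^ 7 ∈ φ.ker := by rw [MonoidHom.mem_ker, map_pow, hk, hf.pow]
  have per : ∀ i, Xc g k (i + 7) = Xc g k i := by
    intro i
    unfold Xc
    have e1 := h.comm h7 g
    have e2 : k ^ 7 * g * (k ^ 7)⁻¹ = g := by rw [e1, mul_inv_cancel_right]
    calc k ^ (i + 7) * g * (k ^ (i + 7))⁻¹ = k ^ i * (k ^ 7 * g * (k ^ 7)⁻¹) * (k ^ i)⁻¹ := by
          rw [pow_add]; group
      _ = _ := by rw [e2]
  have φX : ∀ i, φ (Xc g k i) = s ^ i * x * (s ^ i)⁻¹ := by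
    intro i
    unfold Xc
    rw [map_mul, map_mul, map_inv, map_pow, hg, hk]
  -- the element `z`
  obtain ⟨z, hz, hz0⟩ : ∃ z ∈ φ.ker, Xc g k 0 * Xc g k 1 = z * Xc g k 3 := by
    apply h.exists_eq
    rw [map_mul, φX, φX, φX, pow_zero, inv_one, mul_one, one_mul, pow_one]
    exact hf.rel
  have cj : ∀ (i : ℕ) (a b : L), k ^ i * (a * b) * (k ^ i)⁻¹ = (k ^ i * a * (k ^ i)⁻¹) * (k ^ i * b * (k ^ i)⁻¹) := by
    intro i a b; group
  have cz : ∀ (z : L), z ∈ φ.ker → ∀ (i : ℕ), k ^ i * z * (k ^ i)⁻¹ = z := by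
    intro z hz i
    rw [← h.comm hz, mul_inv_cancel_right]
  have rel : ∀ i, Xc g k i * Xc g k (i + 1) = z * Xc g k (i + 3) := by
    intro i
    have e1 := congrArg (fun y => k ^ i * y * (k ^ i)⁻¹) hz0
    simp only [cj, Xc_conj, cz z hz] at e1
    simpa using e1
  -- the commutator
  obtain ⟨c, hc, hc0⟩ : ∃ c ∈ φ.ker, Xc g k 0 * Xc g k 1 = c * (Xc g k 1 * Xc g k 0) := by
    apply h.exists_eq
    rw [map_mul, map_mul, φX, φX, pow_zero, inv_one, mul_one, one_mul, pow_one]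
    exact hf.comm
  have sh : ∀ (c : L), c ∈ φ.ker → ∀ a b : ℕ, Xc g k a * Xc g k b = c * (Xc g k b * Xc g k a) →
      ∀ i : ℕ, Xc g k (i + a) * Xc g k (i + b) = c * (Xc g k (i + b) * Xc g k (i + a)) := by
    intro c hc a b hab i
    have e1 := congrArg (fun y => k ^ i * y * (k ^ i)⁻¹) hab
    simp only [cj, Xc_conj, cz c hc] at e1
    exact e1
  have c01 := hc0
  have zc := h.comm hz
  have cc := h.comm hc
  -- (0,3)
  have c03 : Xc g k 0 * Xc g k 3 = c * (Xc g k 3 * Xc g k 0) := by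
    have e1 : z * (Xc g k 0 * Xc g k 3) = z * (c * (Xc g k 3 * Xc g k 0)) := by
      have r0 := rel 0
      rw [zero_add, zero_add] at r0
      calc z * (Xc g k 0 * Xc g k 3) = Xc g k 0 * (z * Xc g k 3) := by rw [← mul_assoc, zc, mul_assoc]
        _ = Xc g k 0 * (Xc g k 0 * Xc g k 1) := by rw [r0]
        _ = Xc g k 0 * (c * (Xc g k 1 * Xc g k 0)) := by rw [← c01]
        _ = c * ((Xc g k 0 * Xc g k 1) * Xc g k 0) := by rw [← mul_assoc, ← cc, mul_assoc, mul_assoc]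
        _ = c * (z * Xc g k 3 * Xc g k 0) := by rw [r0]
        _ = z * (c * (Xc g k 3 * Xc g k 0)) := by
            rw [mul_assoc z, ← mul_assoc c, cc, mul_assoc]
    exact mul_left_cancel e1
  have c13 : Xc g k 3 * Xc g k 1 = c * (Xc g k 1 * Xc g k 3) := by
    have e1 : z * (Xc g k 3 * Xc g k 1) = z * (c * (Xc g k 1 * Xc g k 3)) := by
      have r0 := rel 0
      rw [zero_add, zero_add] at r0
      calc z * (Xc g k 3 * Xc g k 1) = (z * Xc g k 3) * Xc g k 1 := by rw [mul_assoc]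
        _ = Xc g k 0 * Xc g k 1 * Xc g k 1 := by rw [r0]
        _ = c * (Xc g k 1 * Xc g k 0) * Xc g k 1 := by rw [← c01]
        _ = c * (Xc g k 1 * (Xc g k 0 * Xc g k 1)) := by rw [mul_assoc, mul_assoc]
        _ = c * (Xc g k 1 * (z * Xc g k 3)) := by rw [r0]
        _ = c * (z * (Xc g k 1 * Xc g k 3)) := by rw [← mul_assoc (Xc g k 1), ← zc, mul_assoc]
        _ = z * (c * (Xc g k 1 * Xc g k 3)) := by rw [← mul_assoc c, cc, mul_assoc]
    exact mul_left_cancel e1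
  have c02 : Xc g k 2 * Xc g k 0 = c * (Xc g k 0 * Xc g k 2) := by
    have e1 := sh c hc 3 1 c13 6
    have p1 : Xc g k (6 + 3) = Xc g k 2 := per 2
    have p2 : Xc g k (6 + 1) = Xc g k 0 := per 0
    rw [p1, p2] at e1
    exact e1
  have c04 : Xc g k 0 * Xc g k 4 = Xc g k 4 * Xc g k 0 := by
    have r1 := rel 1
    rw [show (1 : ℕ) + 1 = 2 by norm_num, show (1 : ℕ) + 3 = 4 by norm_num] at r1
    have e1 : z * (Xc g k 0 * Xc g k 4) = z * (Xc g k 4 * Xc g k 0) := by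
      calc z * (Xc g k 0 * Xc g k 4) = Xc g k 0 * (z * Xc g k 4) := by rw [← mul_assoc, zc, mul_assoc]
        _ = Xc g k 0 * Xc g k 1 * Xc g k 2 := by rw [← r1, mul_assoc]
        _ = c * (Xc g k 1 * Xc g k 0) * Xc g k 2 := by rw [← c01]
        _ = Xc g k 1 * (c * (Xc g k 0 * Xc g k 2)) := by
            rw [← mul_assoc c, cc (Xc g k 1), mul_assoc, mul_assoc]
        _ = Xc g k 1 * (Xc g k 2 * Xc g k 0) := by rw [← c02]
        _ = z * (Xc g k 4 * Xc g k 0) := by rw [← mul_assoc, r1, mul_assoc]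
    exact mul_left_cancel e1
  have c40 : Xc g k 4 * Xc g k 0 = c * (Xc g k 0 * Xc g k 4) := by
    have e1 := sh c hc 0 3 c03 4
    rw [add_zero, show (4 : ℕ) + 3 = 0 + 7 by norm_num, per 0] at e1
    exact e1
  have hc1 : c = 1 := by
    rw [c04] at c40
    have : 1 * (Xc g k 4 * Xc g k 0) = c * (Xc g k 4 * Xc g k 0) := by rw [one_mul]; exact c40
    exact (mul_right_cancel this).symm
  rw [hc1, one_mul] at c01 c02 c03
  have d0 : ∀ d : ℕ, Xc g k 0 * Xc g k d = Xc g k d * Xc g k 0 := by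
    have small : ∀ d : ℕ, d < 7 → Xc g k 0 * Xc g k d = Xc g k d * Xc g k 0 := by
      intro d hd
      interval_cases d
      · rfl
      · exact c01
      · exact c02.symm
      · exact c03
      · exact c04
      · have := sh 1 (Subgroup.one_mem _) 2 0 (by rw [one_mul]; exact c02) 5
        rw [one_mul, add_zero, show (5 : ℕ) + 2 = 0 + 7 by norm_num, per 0] at this
        exact this
      · have := sh 1 (Subgroup.one_mem _) 1 0 (by rw [one_mul]; exact c01.symm) 6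
        rw [one_mul, add_zero, show (6 : ℕ) + 1 = 0 + 7 by norm_num, per 0] at this
        exact this
    intro d
    induction d using Nat.strong_induction_on with
    | _ d ih =>
      by_cases hd : d < 7
      · exact small d hd
      · have h1 := ih (d - 7) (by omega)
        have h2 : d = (d - 7) + 7 := by omega
        rw [h2, per]
        exact h1
  have le : ∀ i d : ℕ, Xc g k i * Xc g k (i + d) = Xc g k (i + d) * Xc g k i := by
    intro i d
    have := sh 1 (Subgroup.one_mem _) 0 d (by rw [one_mul]; exact d0 d) i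
    rwa [one_mul, add_zero] at this
  refine ⟨per, ⟨z, hz, rel⟩, ?_, ?_⟩
  · intro i j
    rcases le_total i j with hij | hij
    · obtain ⟨d, rfl⟩ := Nat.exists_eq_add_of_le hij
      exact le i d
    · obtain ⟨d, rfl⟩ := Nat.exists_eq_add_of_le hij
      exact (le j d).symm
  · intro i
    rw [MonoidHom.mem_ker, map_pow, φX, conj_pow, hf.sq, mul_one, mul_inv_cancel]

/-- the subgroup generated by the conjugates and the kernel -/
def Af (φ : L →* T) (g k : L) : Subgroup L := Subgroup.closure {y | y ∈ φ.ker ∨ ∃ i, y = Xc g k i}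

lemma ker_Af {g k z : L} (hz : z ∈ φ.ker) : z ∈ Af φ g k := Subgroup.subset_closure (Or.inl hz)

lemma Xc_Af (g k : L) (i : ℕ) : Xc g k i ∈ Af φ g k := Subgroup.subset_closure (Or.inr ⟨i, rfl⟩)

lemma ext_Af {g k : L} {M : Type*} [Group M] {θ ψ : Af φ g k →* M}
    (h1 : ∀ a (ha : a ∈ φ.ker), θ ⟨a, ker_Af ha⟩ = ψ ⟨a, ker_Af ha⟩)
    (h2 : ∀ i, θ ⟨Xc g k i, Xc_Af g k i⟩ = ψ ⟨Xc g k i, Xc_Af g k i⟩) : θ = ψ := by
  apply ext_closure
  rintro a (ha | ⟨i, rfl⟩)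
  · exact h1 a ha
  · exact h2 i

lemma comm_Af (h : Cov φ ρ) {x s : T} (hf : Fr7 x s) {g k : L} (hg : φ g = x) (hk : φ k = s) :
    ∀ a ∈ Af φ g k, ∀ b ∈ Af φ g k, a * b = b * a := by
  obtain ⟨-, -, hcomm, -⟩ := frob_struct h hf hg hk
  apply closure_comm
  rintro a (ha | ⟨i, rfl⟩) b (hb | ⟨j, rfl⟩)
  · exact h.comm ha b
  · exact h.comm ha _
  · exact (h.comm hb _).symm
  · exact hcomm i j

lemma nor_Af (h : Cov φ ρ) {x s : T} (hf : Fr7 x s) {g k : L} (hg : φ g = x) (hk : φ k = s) : Nor (Af φ g k) k := by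
  obtain ⟨hper, -, -, -⟩ := frob_struct h hf hg hk
  have h7 : k ^ 7 ∈ φ.ker := by rw [MonoidHom.mem_ker, map_pow, hk, hf.pow]
  have key : ∀ (u : L), (∀ i, ∃ j, u * Xc g k i * u⁻¹ = Xc g k j) → ∀ a ∈ Af φ g k, u * a * u⁻¹ ∈ Af φ g k := by
    intro u hu a ha
    have h1 : Af φ g k ≤ (Af φ g k).comap (MulAut.conj u).toMonoidHom := by
      unfold Af
      rw [Subgroup.closure_le]
      rintro y (hy | ⟨i, rfl⟩)
      · change u * y * u⁻¹ ∈ Af φ g k
        rw [← h.comm hy u, mul_inv_cancel_right]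
        exact ker_Af hy
      · change u * Xc g k i * u⁻¹ ∈ Af φ g k
        obtain ⟨j, hj⟩ := hu i
        rw [hj]
        exact Xc_Af g k j
    exact h1 ha
  intro a
  constructor
  · apply key k
    intro i
    exact ⟨1 + i, by have := Xc_conj g k 1 i; rwa [pow_one] at this⟩
  · intro ha
    have h2 := key k⁻¹ (by
      intro i
      refine ⟨6 + i, ?_⟩
      rw [← Xc_conj g k 6 i]
      have e1 : k ^ 6 = k⁻¹ * k ^ 7 := by group
      have e2 := h.comm h7 (Xc g k i)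
      rw [e1, inv_inv]
      calc k⁻¹ * Xc g k i * k = k⁻¹ * (Xc g k i * k ^ 7) * (k ^ 7)⁻¹ * k := by group
        _ = k⁻¹ * (k ^ 7 * Xc g k i) * (k ^ 7)⁻¹ * k := by rw [e2]
        _ = _ := by group) _ ha
    have e1 : k⁻¹ * (k * a * k⁻¹) * k⁻¹⁻¹ = a := by group
    rwa [e1] at h2

lemma sur_Af (h : Cov φ ρ) {x s : T} (hf : Fr7 x s) {g k : L} (hg : φ g = x) (hk : φ k = s) :
    ∀ a ∈ Af φ g k, ∃ z ∈ φ.ker, ∃ b ∈ Af φ g k, a = z * (k * b * k⁻¹ * b⁻¹) := by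
  obtain ⟨hper, ⟨z, hz, hrel⟩, hcomm, hsq⟩ := frob_struct h hf hg hk
  have hab := comm_Af h hf hg hk
  have hn := nor_Af h hf hg hk
  intro a ha
  unfold Af at ha
  induction ha using Subgroup.closure_induction with
  | mem a ha =>
    rcases ha with ha | ⟨i, rfl⟩
    · exact ⟨a, ha, 1, Subgroup.one_mem _, by group⟩
    · refine ⟨z⁻¹ * Xc g k (i + 4) ^ 2, φ.ker.mul_mem (φ.ker.inv_mem hz) (hsq _), Xc g k (i + 4), Xc_Af g k _, ?_⟩
      have e1 : k * Xc g k (i + 4) * k⁻¹ = Xc g k (i + 4 + 1) := by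
        have := Xc_conj g k 1 (i + 4)
        rw [pow_one] at this
        rw [this]; congr 1; ring
      have e2 := hrel (i + 4)
      rw [show i + 4 + 3 = i + 7 by ring, hper] at e2
      rw [e1]
      have e3 : Xc g k (i + 4) ^ 2 * (Xc g k (i + 4 + 1) * (Xc g k (i + 4))⁻¹) = Xc g k (i + 4) * Xc g k (i + 4 + 1) := by
        rw [pow_two, mul_assoc, ← mul_assoc (Xc g k (i + 4)) (Xc g k (i + 4 + 1)), hcomm (i + 4) (i + 4 + 1),
          mul_inv_cancel_right, hcomm (i + 4) (i + 4 + 1)]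
      rw [mul_assoc, e3, e2, inv_mul_cancel_left]
  | one => exact ⟨1, φ.ker.one_mem, 1, Subgroup.one_mem _, by group⟩
  | mul a a' _ _ ha ha' =>
    obtain ⟨u, hu, b, hb, rfl⟩ := ha
    obtain ⟨u', hu', b', hb', rfl⟩ := ha'
    refine ⟨u * u', φ.ker.mul_mem hu hu', b * b', Subgroup.mul_mem _ hb hb', ?_⟩
    have k1 : k * b * k⁻¹ ∈ Af φ g k := (hn b).1 hb
    have k2 : k * b' * k⁻¹ ∈ Af φ g k := (hn b').1 hb'
    have c1 := hab _ k2 _ ((Af φ g k).inv_mem hb)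
    have c2 := hab _ ((Af φ g k).inv_mem hb) _ ((Af φ g k).inv_mem hb')
    calc u * (k * b * k⁻¹ * b⁻¹) * (u' * (k * b' * k⁻¹ * b'⁻¹))
        = u * ((k * b * k⁻¹ * b⁻¹) * u') * (k * b' * k⁻¹ * b'⁻¹) := by simp only [mul_assoc]
      _ = u * (u' * (k * b * k⁻¹ * b⁻¹)) * (k * b' * k⁻¹ * b'⁻¹) := by rw [h.comm hu']
      _ = u * u' * (k * b * k⁻¹ * (b⁻¹ * (k * b' * k⁻¹)) * b'⁻¹) := by simp only [mul_assoc]
      _ = u * u' * (k * b * k⁻¹ * ((k * b' * k⁻¹) * b⁻¹) * b'⁻¹) := by rw [c1]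
      _ = u * u' * (k * b * k⁻¹ * (k * b' * k⁻¹) * (b⁻¹ * b'⁻¹)) := by simp only [mul_assoc]
      _ = u * u' * (k * b * k⁻¹ * (k * b' * k⁻¹) * (b'⁻¹ * b⁻¹)) := by rw [c2]
      _ = u * u' * (k * (b * b') * k⁻¹ * (b * b')⁻¹) := by group
  | inv a _ ha =>
    obtain ⟨u, hu, b, hb, rfl⟩ := ha
    refine ⟨u⁻¹, φ.ker.inv_mem hu, b⁻¹, Subgroup.inv_mem _ hb, ?_⟩
    have k1 : k * b * k⁻¹ ∈ Af φ g k := (hn b).1 hb
    have c1 := hab _ k1 _ hb
    have c2 := h.comm (φ.ker.inv_mem hu)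
    calc (u * (k * b * k⁻¹ * b⁻¹))⁻¹ = (b * (k * b * k⁻¹)⁻¹) * u⁻¹ := by group
      _ = u⁻¹ * (b * (k * b * k⁻¹)⁻¹) := by rw [c2]
      _ = u⁻¹ * ((k * b * k⁻¹)⁻¹ * ((k * b * k⁻¹) * b) * (k * b * k⁻¹)⁻¹) := by group
      _ = u⁻¹ * ((k * b * k⁻¹)⁻¹ * (b * (k * b * k⁻¹)) * (k * b * k⁻¹)⁻¹) := by rw [c1]
      _ = u⁻¹ * (k * b⁻¹ * k⁻¹ * b⁻¹⁻¹) := by group

/-- the numbers `v_i` -/
lemma sum_seven {Ω : Type*} [Field Ω] (v : ℕ → Ω) (h2 : ∀ i, v i ^ 2 = 1) (hr : ∀ i, v i * v (i + 1) = v (i + 3)) :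
    (∀ i < 7, v i = 1) ∨ v 0 + v 1 + v 2 + v 3 + v 4 + v 5 + v 6 = -1 := by
  have h3 := hr 0
  have h4 := hr 1
  have h5 := hr 2
  have h6 := hr 3
  norm_num at h3 h4 h5 h6
  have s1 := h2 1
  have cases : ∀ i, v i = 1 ∨ v i = -1 := fun i => by
    have h1 : (v i - 1) * (v i + 1) = 0 := by linear_combination h2 i
    rcases mul_eq_zero.1 h1 with h1 | h1
    · exact Or.inl (sub_eq_zero.1 h1)
    · exact Or.inr (eq_neg_of_add_eq_zero_left h1)
  have e4 : v 4 = v 1 * v 2 := h4.symm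
  have e3 : v 3 = v 0 * v 1 := h3.symm
  have e5 : v 5 = v 0 * v 1 * v 2 := by rw [← h5, e3]; ring
  have e6 : v 6 = v 0 * v 2 := by
    rw [← h6, e3, e4]
    linear_combination (v 0 * v 2) * s1
  by_cases hall : v 0 = 1 ∧ v 1 = 1 ∧ v 2 = 1
  · left
    obtain ⟨a0, a1, a2⟩ := hall
    intro i hi
    interval_cases i
    · exact a0
    · exact a1
    · exact a2
    · rw [e3, a0, a1, one_mul]
    · rw [e4, a1, a2, one_mul]
    · rw [e5, a0, a1, a2, one_mul, one_mul]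
    · rw [e6, a0, a2, one_mul]
  · right
    rw [e3, e4, e5, e6]
    have key : (1 + v 0) * (1 + v 1) * (1 + v 2) = 0 := by
      rcases cases 0 with a0 | a0
      · rcases cases 1 with a1 | a1
        · rcases cases 2 with a2 | a2
          · exact absurd ⟨a0, a1, a2⟩ hall
          · rw [a2]; ring
        · rw [a1]; ring
      · rw [a0]; ring
    linear_combination key

set_option maxHeartbeats 1000000 in
/-- **the trace of a lift of an involution in `2³:7`** -/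
theorem frob7 [Finite L] [IsAlgClosed Ω] [FiniteDimensional Ω V] (h : Cov φ ρ) (h2 : (2 : Ω) ≠ 0) {x s : T}
    (hf : Fr7 x s) {g k : L} (hg : φ g = x) (hk : φ k = s) (hn : finrank Ω V ≤ 13) :
    7 ≤ finrank Ω V ∧ (8 ≤ finrank Ω V → ∃ μ : Ω, μ ≠ 0 ∧ ρ (g ^ 2) = (μ ^ 2) • 1 ∧
      LinearMap.trace Ω V (ρ g) = ((finrank Ω V : Ω) - 8) * μ ∧
      LinearMap.trace Ω V (ρ (g * (k * g * k⁻¹))) = ((finrank Ω V : Ω) - 8) * μ ^ 2) := by
  classical
  obtain ⟨hper, ⟨z, hz, hrel⟩, hXcomm, hsq⟩ := frob_struct h hf hg hk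
  have hab := comm_Af h hf hg hk
  have hno := nor_Af h hf hg hk
  have hsur := sur_Af h hf hg hk
  have h7 : k ^ 7 ∈ φ.ker := by rw [MonoidHom.mem_ker, map_pow, hk, hf.pow]
  have hcard : (Nat.card (Af φ g k) : Ω) ≠ 0 := by
    apply h.card_ne Nat.prime_two (by exact_mod_cast h2)
    intro a ha
    refine ⟨1, ?_⟩
    rw [pow_one]
    unfold Af at ha
    induction ha using Subgroup.closure_induction with
    | mem a ha =>
      rcases ha with ha | ⟨i, rfl⟩
      · rw [(MonoidHom.mem_ker).1 ha, one_pow]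
      · rw [← map_pow]; exact hsq i
    | one => rw [map_one, one_pow]
    | mul a a' ha ha' i1 i2 =>
      rw [map_mul]
      have hc : Commute (φ a) (φ a') := by
        change φ a * φ a' = φ a' * φ a
        rw [← map_mul, ← map_mul, hab a ha a' ha']
      rw [hc.mul_pow, i1, i2, one_mul]
    | inv a _ i1 => rw [map_inv, inv_pow, i1, inv_one]
  set A := Af φ g k with hA
  have hgr : ∀ a ∈ A, k ^ 7 * a = a * k ^ 7 := fun a _ => h.comm h7 a
  obtain ⟨χ₀, f1, f2, m, hm⟩ := exists_fixed ρ hab hcard h.scal hno hsur (r := 7) (by norm_num) hgr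
  set σ := sg Ω hno with hσ
  have hσ7 : σ ^ 7 = 1 := by
    rw [hσ, ← sg_pow hno 7 (hno.pow 7)]
    exact sg_eq_one _ hgr
  have hX : ∀ i, Xc g k i ∈ A := fun i => Xc_Af g k i
  have hX0 : Xc g k 0 = g := by unfold Xc; group
  have hX1 : Xc g k 1 = k * g * k⁻¹ := by unfold Xc; group
  -- not all weights are equal
  have hχ₀top : W (rs ρ A) χ₀ ≠ ⊤ := by
    intro htop
    have hsc : ρ (Xc g k 0) = (χ₀ ⟨Xc g k 0, hX 0⟩ : Ω) • 1 := by
      apply LinearMap.ext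
      intro v
      have hv : v ∈ W (rs ρ A) χ₀ := by rw [htop]; trivial
      exact mem_W.1 hv ⟨Xc g k 0, hX 0⟩
    have e1 := h.central_of_scalar hsc k
    rw [hX0] at e1
    have e2 : φ (k * g * k⁻¹) = φ g := by
      rw [← e1, mul_inv_cancel_right]
    rw [map_mul, map_mul, map_inv, hg, hk] at e2
    have r1 := hf.rel
    have e3 : s ^ 3 * x * (s ^ 3)⁻¹ = x := by
      have e4 : s ^ 3 * x * (s ^ 3)⁻¹ = s * (s * (s * x * s⁻¹) * s⁻¹) * s⁻¹ := by
        rw [pow_succ, pow_two]; simp only [mul_inv_rev, mul_assoc]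
      rw [e4, e2, e2, e2]
    rw [e2, e3] at r1
    exact hf.ne (mul_eq_left.1 r1)
  have hm0 : finrank Ω (W (rs ρ A) χ₀) ≠ finrank Ω V := fun h0 => hχ₀top (Submodule.eq_top_of_finrank_eq h0)
  have hm1 : m = 1 := by omega
  subst hm1
  refine ⟨by omega, fun hn8 => ?_⟩
  have hχ₀ne : W (rs ρ A) χ₀ ≠ ⊥ := by
    intro h0
    rw [h0, finrank_bot] at hm
    omega
  -- another weight
  have hfin := finite_chars (K := Ω) A
  have hF : Fintype (A →* Ωˣ) := Fintype.ofFinite _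
  obtain ⟨χ₁, hχ₁, hne⟩ : ∃ χ₁ : A →* Ωˣ, W (rs ρ A) χ₁ ≠ ⊥ ∧ χ₁ ≠ χ₀ := by
    by_contra hcon
    push Not at hcon
    apply hm0
    rw [← sum_dims ρ hab hcard, Finset.sum_eq_single χ₀]
    · intro χ _ hχ
      by_contra h0
      exact hχ (hcon χ (fun h1 => h0 (by rw [h1, finrank_bot])))
    · intro h0
      exact absurd (Finset.mem_univ _) h0
  have hmove : σ χ₁ ≠ χ₁ := fun h0 => hχ₁ (f2 χ₁ h0 hne)
  have hinj := injOn_orbit σ (by norm_num : Nat.Prime 7) hσ7 hmove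
  have hnot : χ₀ ∉ Finset.image (fun i : ℕ => (σ ^ i) χ₁) (Finset.range 7) := by
    intro h0
    obtain ⟨i, -, hi⟩ := Finset.mem_image.1 h0
    apply hmove
    apply (σ ^ i).injective
    rw [← Equiv.Perm.mul_apply, ← pow_succ, pow_succ', Equiv.Perm.mul_apply, hi, f1]
  have hpos : 1 ≤ finrank Ω (W (rs ρ A) χ₁) := by
    rw [Nat.one_le_iff_ne_zero]
    intro h0
    exact hχ₁ (Submodule.finrank_eq_zero.1 h0)
  have hsumS : ∑ χ ∈ insert χ₀ (Finset.image (fun i : ℕ => (σ ^ i) χ₁) (Finset.range 7)),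
      finrank Ω (W (rs ρ A) χ) = finrank Ω (W (rs ρ A) χ₀) + 7 * finrank Ω (W (rs ρ A) χ₁) := by
    rw [Finset.sum_insert hnot, Finset.sum_image hinj,
      Finset.sum_congr rfl (fun i _ => finrank_pow ρ hno χ₁ i), Finset.sum_const, Finset.card_range, smul_eq_mul]
  have hle := sum_dims_le ρ hab hcard (insert χ₀ (Finset.image (fun i : ℕ => (σ ^ i) χ₁) (Finset.range 7)))
  rw [hsumS] at hle
  have hone : finrank Ω (W (rs ρ A) χ₁) = 1 := by omega
  have hfull : ∑ χ ∈ insert χ₀ (Finset.image (fun i : ℕ => (σ ^ i) χ₁) (Finset.range 7)),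
      finrank Ω (W (rs ρ A) χ) = finrank Ω V := by rw [hsumS, hone, hm]
  -- values of `χ₀`
  obtain ⟨w, hw⟩ : ∃ w : Ωˣ, w = χ₀ ⟨Xc g k 0, hX 0⟩ := ⟨_, rfl⟩
  have shift : ∀ (i j : ℕ) (hm : k ^ i * Xc g k j * (k ^ i)⁻¹ ∈ A),
      (⟨k ^ i * Xc g k j * (k ^ i)⁻¹, hm⟩ : A) = ⟨Xc g k (i + j), hX _⟩ :=
    fun i j _ => Subtype.ext (Xc_conj g k i j)
  have hχ₀i : ∀ i, χ₀ ⟨Xc g k i, hX i⟩ = w := by
    intro i
    induction i with
    | zero => exact hw.symm
    | succ i ih =>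
      have e1 := (sg_eq_self hno).1 f1 ⟨Xc g k i, hX i⟩
      rw [ih] at e1
      rw [← e1]
      refine congrArg χ₀ ?_
      apply Subtype.ext
      change Xc g k (i + 1) = k * Xc g k i * k⁻¹
      have e2 := Xc_conj g k 1 i
      rw [pow_one, add_comm] at e2
      exact e2.symm
  have agree : ∀ y (hy : y ∈ φ.ker), χ₀ ⟨y, ker_Af hy⟩ = χ₁ ⟨y, ker_Af hy⟩ := fun y hy =>
    h.agree_ker hχ₀ne hχ₁ hy _
  have hzA : z ∈ A := ker_Af hz
  have relA : ∀ i : ℕ, (⟨Xc g k i, hX i⟩ : A) * ⟨Xc g k (i + 1), hX _⟩ = ⟨z, hzA⟩ * ⟨Xc g k (i + 3), hX _⟩ :=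
    fun i => Subtype.ext (hrel i)
  have relθ : ∀ (θ : A →* Ωˣ) (i : ℕ), θ ⟨Xc g k i, hX i⟩ * θ ⟨Xc g k (i + 1), hX _⟩ =
      θ ⟨z, hzA⟩ * θ ⟨Xc g k (i + 3), hX _⟩ := fun θ i =>
    (map_mul θ _ _).symm.trans ((congrArg θ (relA i)).trans (map_mul θ _ _))
  have hz0 : χ₀ ⟨z, hzA⟩ = w := by
    have e1 := relθ χ₀ 0
    rw [hχ₀i, hχ₀i, hχ₀i] at e1
    exact (mul_right_cancel e1).symm
  have sqθ : ∀ i : ℕ, χ₁ ⟨Xc g k i, hX i⟩ ^ 2 = w ^ 2 := by
    intro i
    have e1 : (⟨Xc g k i, hX i⟩ : A) ^ 2 = ⟨Xc g k i ^ 2, ker_Af (hsq i)⟩ := rfl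
    rw [← map_pow, e1, ← agree _ (hsq i), ← e1, map_pow, hχ₀i]
  -- the numbers
  obtain ⟨u, hu⟩ : ∃ u : ℕ → Ωˣ, ∀ i, u i = χ₁ ⟨Xc g k i, hX i⟩ := ⟨_, fun i => rfl⟩
  have u1 : ∀ i, (u i * w⁻¹) ^ 2 = 1 := by
    intro i
    rw [mul_pow, hu, sqθ, inv_pow, mul_inv_cancel]
  have u2 : ∀ i, (u i * w⁻¹) * (u (i + 1) * w⁻¹) = u (i + 3) * w⁻¹ := by
    intro i
    have e1 := relθ χ₁ i
    rw [← agree z hz, hz0, ← hu, ← hu, ← hu] at e1
    rw [mul_mul_mul_comm, e1, mul_comm w, mul_assoc, mul_inv_cancel_left]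
  have hv := sum_seven (fun i => ((u i * w⁻¹ : Ωˣ) : Ω)) (fun i => by
    change ((u i * w⁻¹ : Ωˣ) : Ω) ^ 2 = 1
    rw [← Units.val_pow_eq_pow_val, u1, Units.val_one]) (fun i => by
    change ((u i * w⁻¹ : Ωˣ) : Ω) * ((u (i + 1) * w⁻¹ : Ωˣ) : Ω) = ((u (i + 3) * w⁻¹ : Ωˣ) : Ω)
    rw [← Units.val_mul, u2])
  have hsum : (∑ i ∈ Finset.range 7, (χ₁ ⟨Xc g k i, hX i⟩ : Ω)) = -w := by
    rcases hv with hv | hv
    · exfalso
      apply hne
      have hi : ∀ i < 7, χ₁ ⟨Xc g k i, hX i⟩ = w := by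
        intro i hi
        have h1 := hv i hi
        change ((u i * w⁻¹ : Ωˣ) : Ω) = 1 at h1
        have h3 : u i * w⁻¹ = 1 := Units.ext h1
        rw [← hu, ← mul_inv_eq_one, h3]
      have hall : ∀ i, χ₁ ⟨Xc g k i, hX i⟩ = w := by
        intro i
        induction i using Nat.strong_induction_on with
        | _ i ih =>
          by_cases hi7 : i < 7
          · exact hi i hi7
          · have e1 := ih (i - 7) (by omega)
            rw [← e1]
            refine congrArg χ₁ ?_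
            apply Subtype.ext
            change Xc g k i = Xc g k (i - 7)
            rw [← hper (i - 7), Nat.sub_add_cancel (by omega)]
      apply ext_Af (φ := φ) (g := g) (k := k)
      · intro a ha
        exact (agree a ha).symm
      · intro i
        exact (hall i).trans (hχ₀i i).symm
    · have e3 : ∀ i, (χ₁ ⟨Xc g k i, hX i⟩ : Ω) = ((u i * w⁻¹ : Ωˣ) : Ω) * (w : Ω) := by
        intro i
        rw [← hu, ← Units.val_mul, inv_mul_cancel_right]
      have hv' : ((u 0 * w⁻¹ : Ωˣ) : Ω) + ((u 1 * w⁻¹ : Ωˣ) : Ω) + ((u 2 * w⁻¹ : Ωˣ) : Ω) + ((u 3 * w⁻¹ : Ωˣ) : Ω) +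
        ((u 4 * w⁻¹ : Ωˣ) : Ω) + ((u 5 * w⁻¹ : Ωˣ) : Ω) + ((u 6 * w⁻¹ : Ωˣ) : Ω) = -1 := hv
      rw [Finset.sum_congr rfl (fun i _ => e3 i), ← Finset.sum_mul, Finset.sum_range_succ, Finset.sum_range_succ,
        Finset.sum_range_succ, Finset.sum_range_succ, Finset.sum_range_succ, Finset.sum_range_succ,
        Finset.sum_range_one, hv', neg_one_mul]
  -- the orbit of `χ₁` at `g`
  have orb : ∀ i ∈ Finset.range 7, (((σ ^ i) χ₁) ⟨Xc g k 0, hX 0⟩ : Ω) = (χ₁ ⟨Xc g k (7 - i), hX _⟩ : Ω) := by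
    intro i hi
    have hi' := Finset.mem_range.1 hi
    have e1 : (σ ^ i) χ₁ = sg Ω (hno.pow i) χ₁ := by rw [sg_pow hno i (hno.pow i)]
    rw [e1]
    have e2 := sg_apply' (hno.pow i) χ₁ ⟨Xc g k (7 - i), hX _⟩
    rw [← e2]
    refine congrArg Units.val (congrArg _ ?_)
    apply Subtype.ext
    change Xc g k 0 = k ^ i * Xc g k (7 - i) * (k ^ i)⁻¹
    rw [Xc_conj, Nat.add_sub_cancel' hi'.le]
    exact (hper 0).symm
  have htr0 : LinearMap.trace Ω V (ρ g) = ((finrank Ω V : Ω) - 8) * w := by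
    have e1 := trace_of_sum ρ hab hcard hfull ⟨Xc g k 0, hX 0⟩
    change LinearMap.trace Ω V (ρ (Xc g k 0)) = _ at e1
    have e0 : LinearMap.trace Ω V (ρ g) = LinearMap.trace Ω V (ρ (Xc g k 0)) := by rw [hX0]
    rw [e0, e1, Finset.sum_insert hnot, Finset.sum_image hinj]
    have e2 : ∑ i ∈ Finset.range 7, (finrank Ω (W (rs ρ A) ((σ ^ i) χ₁)) : Ω) * (((σ ^ i) χ₁) ⟨Xc g k 0, hX 0⟩ : Ω) =
        ∑ i ∈ Finset.range 7, (χ₁ ⟨Xc g k (7 - i), hX _⟩ : Ω) := by
      apply Finset.sum_congr rfl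
      intro i hi
      rw [orb i hi, finrank_pow ρ hno χ₁ i, hone, Nat.cast_one, one_mul]
    rw [e2]
    have e3 : ∑ i ∈ Finset.range 7, (χ₁ ⟨Xc g k (7 - i), hX _⟩ : Ω) = ∑ i ∈ Finset.range 7, (χ₁ ⟨Xc g k i, hX i⟩ : Ω) := by
      simp only [Finset.sum_range_succ, Finset.sum_range_zero]
      have e4 : (χ₁ ⟨Xc g k (7 - 0), hX _⟩ : Ω) = (χ₁ ⟨Xc g k 0, hX 0⟩ : Ω) := by
        refine congrArg Units.val (congrArg χ₁ ?_)
        exact Subtype.ext (hper 0)
      rw [e4]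
      change 0 + (χ₁ ⟨Xc g k 0, hX 0⟩ : Ω) + (χ₁ ⟨Xc g k 6, hX _⟩ : Ω) + (χ₁ ⟨Xc g k 5, hX _⟩ : Ω) +
        (χ₁ ⟨Xc g k 4, hX _⟩ : Ω) + (χ₁ ⟨Xc g k 3, hX _⟩ : Ω) + (χ₁ ⟨Xc g k 2, hX _⟩ : Ω) + (χ₁ ⟨Xc g k 1, hX _⟩ : Ω) = _
      ring
    rw [e3, hsum, hχ₀i 0, hm]
    push_cast
    ring
  refine ⟨w, w.ne_zero, ?_, htr0, ?_⟩
  · obtain ⟨c, hc⟩ := h.scal (g ^ 2) (by have := hsq 0; rwa [hX0] at this)
    rw [hc]
    refine congrArg (· • (1 : Module.End Ω V)) ?_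
    obtain ⟨v, hv, hv0⟩ := (Submodule.ne_bot_iff _).1 hχ₀ne
    have e1 := mem_W.1 hv ⟨Xc g k 0, hX 0⟩
    change ρ (Xc g k 0) v = _ at e1
    have e0 : ρ (Xc g k 0) = ρ g := by rw [hX0]
    rw [hχ₀i, e0] at e1
    have e2 : ρ (g ^ 2) v = ((w : Ω) ^ 2) • v := by
      rw [pow_two, map_mul, Module.End.mul_apply, e1, map_smul, e1, smul_smul, pow_two]
    rw [hc, LinearMap.smul_apply, Module.End.one_apply] at e2
    have e3 : (c - (w : Ω) ^ 2) • v = 0 := by rw [sub_smul, e2, sub_self]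
    exact sub_eq_zero.1 ((smul_eq_zero.1 e3).resolve_right hv0)
  · -- `g * X₁ = z * X₃`
    have e1 : g * (k * g * k⁻¹) = z * Xc g k 3 := by
      have := hrel 0
      rw [hX0, zero_add, zero_add, hX1] at this
      exact this
    obtain ⟨c, hc⟩ := h.scal z hz
    have hcw : c = w := by
      obtain ⟨v, hv, hv0⟩ := (Submodule.ne_bot_iff _).1 hχ₀ne
      have e2 := mem_W.1 hv ⟨z, hzA⟩
      change ρ z v = _ at e2
      rw [hz0, hc, LinearMap.smul_apply, Module.End.one_apply] at e2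
      have e3 : (c - (w : Ω)) • v = 0 := by rw [sub_smul, e2, sub_self]
      exact sub_eq_zero.1 ((smul_eq_zero.1 e3).resolve_right hv0)
    rw [e1, map_mul, hc, smul_mul_assoc, one_mul, map_smul, smul_eq_mul, hcw]
    have e2 : LinearMap.trace Ω V (ρ (Xc g k 3)) = LinearMap.trace Ω V (ρ g) := by
      unfold Xc
      exact trace_conj _ _
    rw [e2, htr0]
    ring

end frob

end Cfsg.Agent.H13.M22
end

-- part: H13/M22/FiveThree
section
/-!
# Abelian subgroups normalised by fixed-point-free elements of order five and three (helper13)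
-/

set_option autoImplicit false
set_option linter.unusedSectionVars false

namespace Cfsg.Agent.H13.M22

open Module Cfsg.Agent.H906.Wt

/-- `A` abelian, normalised by `g5` and `g3`, `A = Z [A, g5] = Z [A, g3]`, `g5^5`, `g3^3` centralise `A` -/
structure FT {L : Type*} [Group L] (Z A : Subgroup L) (g5 g3 : L) : Prop where
  ab : ∀ a ∈ A, ∀ b ∈ A, a * b = b * a
  n5 : Nor A g5
  n3 : Nor A g3
  c5 : ∀ a ∈ A, g5 ^ 5 * a = a * g5 ^ 5
  c3 : ∀ a ∈ A, g3 ^ 3 * a = a * g3 ^ 3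
  u5 : ∀ a ∈ A, ∃ z ∈ Z, ∃ b ∈ A, a = z * (g5 * b * g5⁻¹ * b⁻¹)
  u3 : ∀ a ∈ A, ∃ z ∈ Z, ∃ b ∈ A, a = z * (g3 * b * g3⁻¹ * b⁻¹)

lemma FT.sub {L : Type*} [Group L] {Z A : Subgroup L} {g5 g3 : L} (h : FT Z A g5 g3) (D : Subgroup L) (hA : A ≤ D)
    (h5 : g5 ∈ D) (h3 : g3 ∈ D) : FT (Z.subgroupOf D) (A.subgroupOf D) (⟨g5, h5⟩ : D) ⟨g3, h3⟩ where
  ab := fun a ha b hb => Subtype.ext (h.ab a.1 ha b.1 hb)
  n5 := fun a => h.n5 a.1
  n3 := fun a => h.n3 a.1
  c5 := fun a ha => Subtype.ext (h.c5 a.1 ha)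
  c3 := fun a ha => Subtype.ext (h.c3 a.1 ha)
  u5 := by
    intro a ha
    obtain ⟨z, hz, b, hb, hab⟩ := h.u5 a.1 ha
    have hzD : z ∈ D := by
      have : z = a.1 * (g5 * b * g5⁻¹ * b⁻¹)⁻¹ := by rw [hab]; group
      rw [this]
      exact D.mul_mem a.2 (D.inv_mem (D.mul_mem (D.mul_mem (D.mul_mem h5 (hA hb)) (D.inv_mem h5)) (D.inv_mem (hA hb))))
    exact ⟨⟨z, hzD⟩, hz, ⟨b, hA hb⟩, hb, Subtype.ext hab⟩
  u3 := by
    intro a ha
    obtain ⟨z, hz, b, hb, hab⟩ := h.u3 a.1 ha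
    have hzD : z ∈ D := by
      have : z = a.1 * (g3 * b * g3⁻¹ * b⁻¹)⁻¹ := by rw [hab]; group
      rw [this]
      exact D.mul_mem a.2 (D.inv_mem (D.mul_mem (D.mul_mem (D.mul_mem h3 (hA hb)) (D.inv_mem h3)) (D.inv_mem (hA hb))))
    exact ⟨⟨z, hzD⟩, hz, ⟨b, hA hb⟩, hb, Subtype.ext hab⟩

section numeric

variable {L Ω V : Type*} [Group L] {Z A : Subgroup L} {g5 g3 : L} [Field Ω] [AddCommGroup V] [Module Ω V]
  [FiniteDimensional Ω V] [Finite A] [IsAlgClosed Ω] {ρ : L →* Module.End Ω V}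

/-- the numerical facts -/
theorem FT.num (h : FT Z A g5 g3) (hZ : ∀ z ∈ Z, ∃ c : Ω, ρ z = c • 1) (hcard : (Nat.card A : Ω) ≠ 0)
    (hns : ∀ χ : A →* Ωˣ, W (rs ρ A) χ ≠ ⊤) :
    ∃ χ₅ χ₃ : A →* Ωˣ, ∃ k l : ℕ,
      sg Ω h.n5 χ₅ = χ₅ ∧ (∀ χ, sg Ω h.n5 χ = χ → χ ≠ χ₅ → W (rs ρ A) χ = ⊥) ∧
      sg Ω h.n3 χ₃ = χ₃ ∧ (∀ χ, sg Ω h.n3 χ = χ → χ ≠ χ₃ → W (rs ρ A) χ = ⊥) ∧
      finrank Ω V = finrank Ω (W (rs ρ A) χ₅) + 5 * k ∧ finrank Ω V = finrank Ω (W (rs ρ A) χ₃) + 3 * l ∧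
      finrank Ω (W (rs ρ A) χ₅) ≠ finrank Ω V ∧ finrank Ω (W (rs ρ A) χ₃) ≠ finrank Ω V ∧
      (W (rs ρ A) χ₅ = ⊥ ∨ finrank Ω (W (rs ρ A) χ₅) = finrank Ω (W (rs ρ A) χ₃) ∨
        (sg Ω h.n3 χ₅ ≠ χ₅ ∧ 3 * finrank Ω (W (rs ρ A) χ₅) ≤ finrank Ω V)) ∧
      (W (rs ρ A) χ₃ = ⊥ ∨ finrank Ω (W (rs ρ A) χ₅) = finrank Ω (W (rs ρ A) χ₃) ∨
        (sg Ω h.n5 χ₃ ≠ χ₃ ∧ 5 * finrank Ω (W (rs ρ A) χ₃) ≤ finrank Ω V)) := by
  classical
  obtain ⟨χ₅, a1, a2, k, hk⟩ := exists_fixed ρ h.ab hcard hZ h.n5 h.u5 Nat.prime_five h.c5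
  obtain ⟨χ₃, b1, b2, l, hl⟩ := exists_fixed ρ h.ab hcard hZ h.n3 h.u3 Nat.prime_three h.c3
  have ns : ∀ χ : A →* Ωˣ, finrank Ω (W (rs ρ A) χ) ≠ finrank Ω V := fun χ h0 =>
    hns χ (Submodule.eq_top_of_finrank_eq h0)
  have hσ5 : (sg Ω h.n5) ^ 5 = 1 := by
    rw [← sg_pow h.n5 5 (h.n5.pow 5)]
    exact sg_eq_one _ h.c5
  have hσ3 : (sg Ω h.n3) ^ 3 = 1 := by
    rw [← sg_pow h.n3 3 (h.n3.pow 3)]
    exact sg_eq_one _ h.c3
  have orb : ∀ (g : L) (hg : Nor A g) (r : ℕ), r.Prime → (sg Ω hg) ^ r = 1 → ∀ χ, sg Ω hg χ ≠ χ →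
      r * finrank Ω (W (rs ρ A) χ) ≤ finrank Ω V := by
    intro g hg r hr hσ χ hχ
    have h1 := sum_dims_le ρ h.ab hcard (Finset.image (fun i : ℕ => ((sg Ω hg) ^ i) χ) (Finset.range r))
    rw [Finset.sum_image (injOn_orbit _ hr hσ hχ), Finset.sum_congr rfl (fun i _ => finrank_pow ρ hg χ i),
      Finset.sum_const, Finset.card_range, smul_eq_mul] at h1
    exact h1
  refine ⟨χ₅, χ₃, k, l, a1, a2, b1, b2, hk, hl, ns _, ns _, ?_, ?_⟩
  · by_cases h0 : W (rs ρ A) χ₅ = ⊥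
    · exact Or.inl h0
    · right
      by_cases h1 : sg Ω h.n3 χ₅ = χ₅
      · left
        have h2 : χ₅ = χ₃ := by
          by_contra h3
          exact h0 (b2 χ₅ h1 h3)
        rw [h2]
      · exact Or.inr ⟨h1, orb g3 h.n3 3 Nat.prime_three hσ3 χ₅ h1⟩
  · by_cases h0 : W (rs ρ A) χ₃ = ⊥
    · exact Or.inl h0
    · right
      by_cases h1 : sg Ω h.n5 χ₃ = χ₃
      · left
        have h2 : χ₃ = χ₅ := by
          by_contra h3
          exact h0 (a2 χ₃ h1 h3)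
        rw [h2]
      · exact Or.inr ⟨h1, orb g5 h.n5 5 Nat.prime_five hσ5 χ₃ h1⟩

/-- degree eight is impossible -/
theorem FT.not_eight (h : FT Z A g5 g3) (hZ : ∀ z ∈ Z, ∃ c : Ω, ρ z = c • 1) (hcard : (Nat.card A : Ω) ≠ 0)
    (hns : ∀ χ : A →* Ωˣ, W (rs ρ A) χ ≠ ⊤) : finrank Ω V ≠ 8 := by
  intro hn
  obtain ⟨χ₅, χ₃, k, l, -, -, -, -, h5, h6, h7, h8, h9, -⟩ := h.num hZ hcard hns
  rw [hn] at h5 h6 h7 h8 h9
  rcases h9 with h9 | h9 | h9
  · rw [h9, finrank_bot] at h5; omega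
  · omega
  · omega

/-- degree ten -/
theorem FT.ten (h : FT Z A g5 g3) (hZ : ∀ z ∈ Z, ∃ c : Ω, ρ z = c • 1) (hcard : (Nat.card A : Ω) ≠ 0)
    (hns : ∀ χ : A →* Ωˣ, W (rs ρ A) χ ≠ ⊤) (hn : finrank Ω V = 10) :
    (∀ χ, sg Ω h.n5 χ = χ → W (rs ρ A) χ = ⊥) ∧ (∀ χ, sg Ω h.n3 χ = χ → finrank Ω (W (rs ρ A) χ) ≤ 1) := by
  obtain ⟨χ₅, χ₃, k, l, a1, a2, b1, b2, h5, h6, h7, h8, h9, h10⟩ := h.num hZ hcard hns
  rw [hn] at h5 h6 h7 h8 h9 h10
  have m5 : finrank Ω (W (rs ρ A) χ₅) = 0 := by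
    rcases h9 with h9 | h9 | h9
    · rw [h9, finrank_bot]
    · omega
    · omega
  have m3 : finrank Ω (W (rs ρ A) χ₃) = 1 := by
    rcases h10 with h10 | h10 | h10
    · rw [h10, finrank_bot] at h6; omega
    · omega
    · omega
  constructor
  · intro χ hχ
    by_cases h0 : χ = χ₅
    · rw [h0]; exact Submodule.finrank_eq_zero.1 m5
    · exact a2 χ hχ h0
  · intro χ hχ
    by_cases h0 : χ = χ₃
    · rw [h0, m3]
    · rw [b2 χ hχ h0, finrank_bot]
      exact Nat.zero_le _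

/-- degree ten: irreducibility -/
theorem FT.irred [Finite L] (h : FT Z A g5 g3) (hZ : ∀ z ∈ Z, ∃ c : Ω, ρ z = c • 1) (hcard : (Nat.card A : Ω) ≠ 0)
    (hns : ∀ χ : A →* Ωˣ, W (rs ρ A) χ ≠ ⊤) (hn : finrank Ω V = 10) (W' : Submodule Ω V)
    (hW' : ∀ g, ∀ v ∈ W', ρ g v ∈ W') : W' = ⊥ ∨ W' = ⊤ := by
  classical
  obtain ⟨t5, t3⟩ := h.ten hZ hcard hns hn
  let ρ' : L →* Module.End Ω W' :=
    { toFun := fun a => (ρ a).restrict (hW' a)
      map_one' := by
        ext v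
        change ρ 1 v.1 = v.1
        rw [map_one, Module.End.one_apply]
      map_mul' := fun a b => by
        ext v
        change ρ (a * b) v.1 = ρ a (ρ b v.1)
        rw [map_mul, Module.End.mul_apply] }
  have hZ' : ∀ z ∈ Z, ∃ c : Ω, ρ' z = c • 1 := by
    intro z hz
    obtain ⟨c, hc⟩ := hZ z hz
    refine ⟨c, LinearMap.ext fun v => Subtype.ext ?_⟩
    change ρ z v.1 = c • v.1
    rw [hc]; rfl
  have hle : ∀ χ : A →* Ωˣ, finrank Ω (W (rs ρ' A) χ) ≤ finrank Ω (W (rs ρ A) χ) := by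
    intro χ
    have h1 : (W (rs ρ' A) χ).map W'.subtype ≤ W (rs ρ A) χ := by
      rintro _ ⟨v, hv, rfl⟩
      rw [mem_W]
      intro a
      exact congrArg Subtype.val (mem_W.1 hv a)
    have h2 := Submodule.finrank_mono h1
    rwa [Submodule.finrank_map_subtype_eq] at h2
  obtain ⟨χ₅, a1, -, k, hk⟩ := exists_fixed ρ' h.ab hcard hZ' h.n5 h.u5 Nat.prime_five h.c5
  obtain ⟨χ₃, b1, -, l, hl⟩ := exists_fixed ρ' h.ab hcard hZ' h.n3 h.u3 Nat.prime_three h.c3
  have e5 : finrank Ω (W (rs ρ' A) χ₅) = 0 := by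
    have h1 := hle χ₅
    rw [t5 χ₅ a1, finrank_bot] at h1
    omega
  have e3 := (hle χ₃).trans (t3 χ₃ b1)
  have h1 := Submodule.finrank_le W'
  rw [hn] at h1
  by_cases h0 : finrank Ω W' = 0
  · exact Or.inl (Submodule.finrank_eq_zero.1 h0)
  · right
    apply Submodule.eq_top_of_finrank_eq
    rw [hn]
    omega

/-- degree twelve: six weights of multiplicity two -/
theorem FT.twelve (h : FT Z A g5 g3) (hZ : ∀ z ∈ Z, ∃ c : Ω, ρ z = c • 1) (hcard : (Nat.card A : Ω) ≠ 0)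
    (hns : ∀ χ : A →* Ωˣ, W (rs ρ A) χ ≠ ⊤) (hn : finrank Ω V = 12) :
    ∃ χ : A →* Ωˣ, sg Ω h.n5 χ = χ ∧ W (rs ρ A) χ ≠ ⊥ ∧
      ∀ a : A, LinearMap.trace Ω V (ρ a) =
        2 * (χ a : Ω) + ∑ i ∈ Finset.range 5, 2 * ((((sg Ω h.n5) ^ i) (sg Ω h.n3 χ)) a : Ω) := by
  classical
  obtain ⟨χ₅, χ₃, k, l, a1, a2, b1, b2, h5, h6, h7, h8, h9, h10⟩ := h.num hZ hcard hns
  rw [hn] at h5 h6 h7 h8 h9 h10
  have hσ5 : (sg Ω h.n5) ^ 5 = 1 := by
    rw [← sg_pow h.n5 5 (h.n5.pow 5)]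
    exact sg_eq_one _ h.c5
  have m5 : finrank Ω (W (rs ρ A) χ₅) = 2 ∧ sg Ω h.n3 χ₅ ≠ χ₅ := by
    rcases h9 with h9 | h9 | h9
    · rw [h9, finrank_bot] at h5; omega
    · omega
    · exact ⟨by omega, h9.1⟩
  obtain ⟨m5, hne⟩ := m5
  have m5' : finrank Ω (W (rs ρ A) (sg Ω h.n3 χ₅)) = 2 := by rw [finrank_sg, m5]
  have hmove : sg Ω h.n5 (sg Ω h.n3 χ₅) ≠ sg Ω h.n3 χ₅ := by
    intro h0
    have h1 := a2 _ h0 hne
    rw [h1, finrank_bot] at m5'
    omega
  have hinj := injOn_orbit _ Nat.prime_five hσ5 hmove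
  have hnot : χ₅ ∉ Finset.image (fun i : ℕ => ((sg Ω h.n5) ^ i) (sg Ω h.n3 χ₅)) (Finset.range 5) := by
    intro h0
    obtain ⟨i, -, hi⟩ := Finset.mem_image.1 h0
    apply hmove
    apply ((sg Ω h.n5) ^ i).injective
    rw [← Equiv.Perm.mul_apply, ← pow_succ, pow_succ', Equiv.Perm.mul_apply, hi, a1]
  have hS : ∑ χ ∈ insert χ₅ (Finset.image (fun i : ℕ => ((sg Ω h.n5) ^ i) (sg Ω h.n3 χ₅)) (Finset.range 5)),
      finrank Ω (W (rs ρ A) χ) = finrank Ω V := by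
    rw [Finset.sum_insert hnot, Finset.sum_image hinj, Finset.sum_congr rfl (fun i _ => finrank_pow ρ h.n5 _ i),
      Finset.sum_const, Finset.card_range, smul_eq_mul, m5, m5', hn]
  refine ⟨χ₅, a1, ?_, ?_⟩
  · intro h0
    rw [h0, finrank_bot] at m5
    omega
  · intro a
    rw [trace_of_sum ρ h.ab hcard hS a, Finset.sum_insert hnot, Finset.sum_image hinj, m5]
    refine congrArg₂ (· + ·) rfl ?_
    apply Finset.sum_congr rfl
    intro i _
    rw [finrank_pow ρ h.n5 _ i, m5']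
    norm_num

end numeric

/-- the data in `T` -/
structure F53 {T : Type*} [Group T] (E : Subgroup T) (s5 s3 : T) : Prop where
  sq : ∀ e ∈ E, e ^ 2 = 1
  n5 : ∀ e, e ∈ E ↔ s5 * e * s5⁻¹ ∈ E
  n3 : ∀ e, e ∈ E ↔ s3 * e * s3⁻¹ ∈ E
  p5 : s5 ^ 5 = 1
  p3 : s3 ^ 3 = 1
  u5 : ∀ e ∈ E, ∃ f ∈ E, e = s5 * f * s5⁻¹ * f⁻¹
  u3 : ∀ e ∈ E, ∃ f ∈ E, e = s3 * f * s3⁻¹ * f⁻¹
  ne : ∃ e ∈ E, e ≠ 1

section lift

variable {L T Ω V : Type*} [Group L] [Group T] [Field Ω] [AddCommGroup V] [Module Ω V]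
  {φ : L →* T} {ρ : L →* Module.End Ω V} {E : Subgroup T} {s5 s3 : T}

theorem F53.ft (h : Cov φ ρ) (hE : F53 E s5 s3) (hab : ∀ a ∈ E.comap φ, ∀ b ∈ E.comap φ, a * b = b * a)
    {g5 g3 : L} (h5 : φ g5 = s5) (h3 : φ g3 = s3) : FT φ.ker (E.comap φ) g5 g3 := by
  have nor : ∀ (g : L) (s : T), φ g = s → (∀ e, e ∈ E ↔ s * e * s⁻¹ ∈ E) → Nor (E.comap φ) g := by
    intro g s hg hs a
    rw [Subgroup.mem_comap, Subgroup.mem_comap, map_mul, map_mul, map_inv, hg]
    exact hs _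
  have sur : ∀ (g : L) (s : T), φ g = s → (∀ e ∈ E, ∃ f ∈ E, e = s * f * s⁻¹ * f⁻¹) →
      ∀ a ∈ E.comap φ, ∃ z ∈ φ.ker, ∃ b ∈ E.comap φ, a = z * (g * b * g⁻¹ * b⁻¹) := by
    intro g s hg hs a ha
    obtain ⟨f, hf, hef⟩ := hs _ (Subgroup.mem_comap.1 ha)
    obtain ⟨b, rfl⟩ := h.surj f
    obtain ⟨z, hz, hab'⟩ := h.exists_eq (a := a) (b := g * b * g⁻¹ * b⁻¹) (by
      rw [hef, map_mul, map_mul, map_mul, map_inv, map_inv, hg])
    exact ⟨z, hz, b, hf, hab'⟩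
  exact
    { ab := hab
      n5 := nor _ _ h5 hE.n5
      n3 := nor _ _ h3 hE.n3
      c5 := fun a _ => h.comm (by rw [MonoidHom.mem_ker, map_pow, h5, hE.p5]) a
      c3 := fun a _ => h.comm (by rw [MonoidHom.mem_ker, map_pow, h3, hE.p3]) a
      u5 := sur _ _ h5 hE.u5
      u3 := sur _ _ h3 hE.u3 }

theorem F53.card [Finite L] (h : Cov φ ρ) (hE : F53 E s5 s3) (h2 : (2 : Ω) ≠ 0) :
    (Nat.card (E.comap φ) : Ω) ≠ 0 := by
  apply h.card_ne Nat.prime_two (by exact_mod_cast h2)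
  intro a ha
  refine ⟨1, ?_⟩
  rw [pow_one]
  exact hE.sq _ ha

theorem F53.not_top (h : Cov φ ρ) (hE : F53 E s5 s3) (χ : E.comap φ →* Ωˣ) : W (rs ρ (E.comap φ)) χ ≠ ⊤ := by
  intro htop
  obtain ⟨e, he, hne⟩ := hE.ne
  obtain ⟨f, hf, hef⟩ := hE.u5 e he
  obtain ⟨b, rfl⟩ := h.surj f
  obtain ⟨g, rfl⟩ := h.surj s5
  have hb : b ∈ E.comap φ := hf
  have hsc : ρ b = (χ ⟨b, hb⟩ : Ω) • 1 := by
    apply LinearMap.ext
    intro v
    have hv : v ∈ W (rs ρ (E.comap φ)) χ := by rw [htop]; trivial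
    exact mem_W.1 hv ⟨b, hb⟩
  have h1 := h.central_of_scalar hsc g
  apply hne
  rw [hef, ← map_mul, ← h1, map_mul]
  group

end lift

end Cfsg.Agent.H13.M22
end

-- part: H13/M22/Elts
section
/-!
# Explicit elements of `M22` (helper13)
-/

set_option autoImplicit false
set_option linter.unusedSectionVars false

namespace Cfsg.Agent.H13.M22

open Cfsg Cfsg.Agent.SporadicA.GolayBase Cfsg.Agent.SporadicA.GolayPerm
open Cfsg.Agent.SporadicStructure.M24El Cfsg.Agent.H921.Spor Cfsg.Agent.H921.Spor.M24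

/-- packed elements of `M22` -/
def okM (P : ℕ) : Bool := ok P && Nat.beq (papp P 23) 23 && Nat.beq (papp P 0) 0

open Classical in
/-- the element of `M22` packed in `P` -/
noncomputable def em (P : ℕ) : Spor.M22 :=
  if h : okM P = true then ⟨(el P : Equiv.Perm GolayPt), mem_M22 h⟩ else 1

theorem coe_em {P : ℕ} (h : okM P = true) : (em P : Equiv.Perm GolayPt) = (el P : Equiv.Perm GolayPt) := by
  unfold em
  rw [dif_pos h]

theorem ok_of {P : ℕ} (h : okM P = true) : ok P = true := by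
  unfold okM at h
  simp only [Bool.and_eq_true] at h
  exact h.1.1

theorem okM_pcomp {P Q : ℕ} (hP : okM P = true) (hQ : okM Q = true) : okM (pcomp P Q) = true := by
  have h1 := hP
  have h2 := hQ
  unfold okM at h1 h2 ⊢
  simp only [Bool.and_eq_true] at h1 h2 ⊢
  obtain ⟨⟨a1, a2⟩, a3⟩ := h1
  obtain ⟨⟨b1, b2⟩, b3⟩ := h2
  have a2 := Nat.eq_of_beq_eq_true a2
  have a3 := Nat.eq_of_beq_eq_true a3
  have b2 := Nat.eq_of_beq_eq_true b2
  have b3 := Nat.eq_of_beq_eq_true b3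
  refine ⟨⟨ok_pcomp a1 b1, ?_⟩, ?_⟩
  · rw [papp_pcomp _ _ (by norm_num), b2, a2]; rfl
  · rw [papp_pcomp _ _ (by norm_num), b3, a3]; rfl

theorem em_mul {P Q : ℕ} (hP : okM P = true) (hQ : okM Q = true) : em (pcomp P Q) = em P * em Q := by
  apply Subtype.ext
  rw [Subgroup.coe_mul, coe_em (okM_pcomp hP hQ), coe_em hP, coe_em hQ, el_pcomp (ok_of hP) (ok_of hQ),
    Subgroup.coe_mul]

theorem okM_idP : okM idP = true := by decide +kernel

theorem em_one : em idP = 1 := by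
  apply Subtype.ext
  rw [coe_em okM_idP, el_idP]
  rfl

theorem okM_ppow {P : ℕ} (h : okM P = true) (n : ℕ) : okM (ppow P n) = true := by
  induction n with
  | zero => exact okM_idP
  | succ n ih => exact okM_pcomp h ih

theorem em_ppow {P : ℕ} (h : okM P = true) (n : ℕ) : em (ppow P n) = em P ^ n := by
  induction n with
  | zero => rw [pow_zero]; exact em_one
  | succ n ih =>
    change em (pcomp P (ppow P n)) = _
    rw [em_mul h (okM_ppow h n), ih, pow_succ']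

theorem em_inv {P Q : ℕ} (hP : okM P = true) (hQ : okM Q = true) (h : pcomp P Q = idP) : em Q = (em P)⁻¹ := by
  apply eq_inv_of_mul_eq_one_right
  rw [← em_mul hP hQ, h, em_one]

theorem em_ne_one {P : ℕ} (hP : okM P = true) {i : ℕ} (hi : i < 24) (h : papp P i ≠ i) : em P ≠ 1 := by
  intro h1
  apply el_ne_one (ok_of hP) hi h
  apply Subtype.ext
  rw [← coe_em hP, h1]
  rfl

/-- conjugates -/
theorem em_conj {S SI P Q : ℕ} (hS : okM S = true) (hSI : okM SI = true) (hP : okM P = true)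
    (h : pcomp S SI = idP) (h' : pcomp S (pcomp P SI) = Q) : em S * em P * (em S)⁻¹ = em Q := by
  rw [← h', em_mul hS (okM_pcomp hP hSI), em_mul hP hSI, em_inv hS hSI h, mul_assoc]

/-- conjugates, without the inverse -/
theorem em_conj' {S P Q : ℕ} (hS : okM S = true) (hP : okM P = true) (hQ : okM Q = true)
    (h : pcomp S P = pcomp Q S) : em S * em P * (em S)⁻¹ = em Q := by
  rw [mul_inv_eq_iff_eq_mul, ← em_mul hS hP, ← em_mul hQ hS, h]

/-- point stabilisers -/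
def st (p : GolayPt) : Subgroup Spor.M22 := (MulAction.stabilizer (Equiv.Perm GolayPt) p).subgroupOf Spor.M22

theorem em_mem_st {P i : ℕ} (hP : okM P = true) (hi : i < 24) (h : papp P i = i) : em P ∈ st (pt i) := by
  change (em P : Equiv.Perm GolayPt) ∈ MulAction.stabilizer _ _
  rw [coe_em hP]
  exact fix_pt (ok_of hP) hi h

/-! ### the data -/

def x0P : ℕ := 976420838754479978627774237199763488
def sP : ℕ := 964065525174479805009466738072852000
def sI : ℕ := 982944647659980542910880396851101312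
def s5P : ℕ := 980514289917687888570425015084910624
def s5I : ℕ := 977993317804836395731366124916803616
def s3P : ℕ := 976531636853126291160407323722221600
def s3I : ℕ := 972606645568131968584696805283956768
def kP : ℕ := 984721978136738731986858641841030208
/-- the subgroup `2⁴` : identity, and three orbits of length five -/
def EL : List ℕ := [984818244535754528103549039458486304, 976448692869377735270425038196672544,
  984202951082164080105044112956360736, 977023451795203591179182037798520864, 960831283963798152912375878980765728,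
  960884477435128931241433760505432096, 972512676110088067912772961567868960, 984724508489452699215480746259449888,
  973122887587861701392823884636653600, 976934804572108675034832543981668384, 976420838754479978627774237199763488,
  961365507626256404119956257276790816, 984235865005994746954145143334668320, 961438956620049001677386430328277024,
  972560815420533050926679905878345760, 973054518210042674313238929715267616]
/-- conjugating elements -/
def CJ : List ℕ := [984818244535754528103549039458486304, 969237027325823941075897414264686624,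
  980874226864350081512017426024335392, 981515887986994088769278604842469408, 976531636853126291160407323722221600,
  969836898326968551397880902883313696, 980514289917687888570425015084910624, 968708902336673183175954409307867168,
  972606645568131968584696805283956768, 975728708050008715525885598301784096, 984818244535754528103549039458486304,
  971331552420839452255780435015108640, 971828115858035635643548061566863392, 979121071158219704299181131031480352,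
  965128854020860192151391391390468128, 983141956895601025126892051911247904]

theorem ok_data : okM x0P = true ∧ okM sP = true ∧ okM sI = true ∧ okM s5P = true ∧ okM s5I = true ∧ okM s3P = true ∧
    okM s3I = true ∧ okM kP = true := by decide +kernel

theorem ok_EL : ∀ P ∈ EL, okM P = true := List.all_eq_true.1 (by decide +kernel)

theorem ok_CJ : ∀ P ∈ CJ, okM P = true := List.all_eq_true.1 (by decide +kernel)

/-- `2³:7` -/
theorem fr7 : Fr7 (em x0P) (em sP) := by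
  obtain ⟨hx, hs, hsI, -⟩ := ok_data
  have hss : pcomp sP sI = idP := by decide +kernel
  have e1 : em sP * em x0P * (em sP)⁻¹ = em (pcomp sP (pcomp x0P sI)) := em_conj hs hsI hx hss rfl
  have ok1 : okM (pcomp sP (pcomp x0P sI)) = true := okM_pcomp hs (okM_pcomp hx hsI)
  have hs3 := okM_ppow hs 3
  refine ⟨?_, ?_, ?_, ?_, ?_⟩
  · rw [← em_ppow hx, ← em_one]
    congr 1
  · exact em_ne_one hx (i := 3) (by norm_num) (by decide +kernel)
  · rw [← em_ppow hs, ← em_one]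
    congr 1
  · rw [e1, ← em_mul hx ok1, ← em_mul ok1 hx]
    congr 1
  · rw [e1, ← em_mul hx ok1, ← em_ppow hs]
    symm
    exact em_conj' hs3 hx (okM_pcomp hx ok1) (by decide +kernel)

/-- the subgroup `2⁴` -/
def E22 : Subgroup Spor.M22 where
  carrier := {g | ∃ P ∈ EL, g = em P}
  mul_mem' := by
    rintro _ _ ⟨P, hP, rfl⟩ ⟨Q, hQ, rfl⟩
    refine ⟨pcomp P Q, ?_, (em_mul (ok_EL P hP) (ok_EL Q hQ)).symm⟩
    have h : (EL.all fun P => EL.all fun Q => EL.contains (pcomp P Q)) = true := by decide +kernel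
    exact List.contains_iff_mem.1 (List.all_eq_true.1 (List.all_eq_true.1 h P hP) Q hQ)
  one_mem' := ⟨idP, by decide, em_one.symm⟩
  inv_mem' := by
    rintro _ ⟨P, hP, rfl⟩
    refine ⟨P, hP, ?_⟩
    have h : (EL.all fun P => Nat.beq (pcomp P P) idP) = true := by decide +kernel
    exact (em_inv (ok_EL P hP) (ok_EL P hP) (Nat.eq_of_beq_eq_true (List.all_eq_true.1 h P hP))).symm

theorem em_mem_E22 {P : ℕ} (hP : P ∈ EL) : em P ∈ E22 := ⟨P, hP, rfl⟩

theorem iff_of_pow {T : Type*} [Group T] {E : Subgroup T} {s : T} {r : ℕ} (hr : 0 < r) (hs : s ^ r = 1)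
    (h : ∀ e ∈ E, s * e * s⁻¹ ∈ E) : ∀ e, e ∈ E ↔ s * e * s⁻¹ ∈ E := by
  intro e
  refine ⟨h e, fun he => ?_⟩
  have key : ∀ (k : ℕ) (e : T), e ∈ E → s ^ k * e * (s ^ k)⁻¹ ∈ E := by
    intro k
    induction k with
    | zero => intro e he; simpa using he
    | succ k ih =>
      intro e he
      have h1 := ih _ (h e he)
      have h2 : s ^ k * (s * e * s⁻¹) * (s ^ k)⁻¹ = s ^ (k + 1) * e * (s ^ (k + 1))⁻¹ := by
        rw [pow_succ]; group
      rwa [h2] at h1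
  have h1 := key (r - 1) _ he
  have h2 : s ^ (r - 1) * (s * e * s⁻¹) * (s ^ (r - 1))⁻¹ = s ^ r * e * (s ^ r)⁻¹ := by
    have h3 : s ^ r = s ^ (r - 1) * s := by rw [← pow_succ, Nat.sub_add_cancel hr]
    rw [h3]; group
  rw [h2, hs, inv_one, mul_one, one_mul] at h1
  exact h1

/-- `E22` with its elements of order five and three -/
theorem f53 : F53 E22 (em s5P) (em s3P) := by
  obtain ⟨-, -, -, h5, h5I, h3, h3I, -⟩ := ok_data
  have i5 : pcomp s5P s5I = idP := by decide +kernel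
  have i3 : pcomp s3P s3I = idP := by decide +kernel
  have p5 : em s5P ^ 5 = 1 := by
    rw [← em_ppow h5, ← em_one]
    congr 1
  have p3 : em s3P ^ 3 = 1 := by
    rw [← em_ppow h3, ← em_one]
    congr 1
  have f5 : ∀ e ∈ E22, em s5P * e * (em s5P)⁻¹ ∈ E22 := by
    rintro _ ⟨P, hP, rfl⟩
    refine ⟨pcomp s5P (pcomp P s5I), ?_, em_conj h5 h5I (ok_EL P hP) i5 rfl⟩
    have h : (EL.all fun P => EL.contains (pcomp s5P (pcomp P s5I))) = true := by decide +kernel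
    exact List.contains_iff_mem.1 (List.all_eq_true.1 h P hP)
  have f3 : ∀ e ∈ E22, em s3P * e * (em s3P)⁻¹ ∈ E22 := by
    rintro _ ⟨P, hP, rfl⟩
    refine ⟨pcomp s3P (pcomp P s3I), ?_, em_conj h3 h3I (ok_EL P hP) i3 rfl⟩
    have h : (EL.all fun P => EL.contains (pcomp s3P (pcomp P s3I))) = true := by decide +kernel
    exact List.contains_iff_mem.1 (List.all_eq_true.1 h P hP)
  have sq : ∀ e ∈ E22, e ^ 2 = 1 := by
    rintro _ ⟨P, hP, rfl⟩
    have h : (EL.all fun P => Nat.beq (pcomp P P) idP) = true := by decide +kernel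
    have h1 := Nat.eq_of_beq_eq_true (List.all_eq_true.1 h P hP)
    rw [pow_two, ← em_mul (ok_EL P hP) (ok_EL P hP), h1, em_one]
  have inv' : ∀ e ∈ E22, e⁻¹ = e := by
    intro e he
    rw [inv_eq_iff_mul_eq_one, ← pow_two, sq e he]
  refine ⟨sq, iff_of_pow (by norm_num) p5 f5, iff_of_pow (by norm_num) p3 f3, p5, p3, ?_, ?_,
    ⟨em 976448692869377735270425038196672544, em_mem_E22 (by decide), em_ne_one (by decide +kernel) (i := 4)
      (by norm_num) (by decide +kernel)⟩⟩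
  · rintro _ ⟨P, hP, rfl⟩
    have h : (EL.all fun P => EL.any fun Q => Nat.beq (pcomp (pcomp s5P (pcomp Q s5I)) Q) P) = true := by
      decide +kernel
    obtain ⟨Q, hQ, h1⟩ := List.any_eq_true.1 (List.all_eq_true.1 h P hP)
    have h1 := Nat.eq_of_beq_eq_true h1
    refine ⟨em Q, em_mem_E22 hQ, ?_⟩
    rw [inv' _ (em_mem_E22 hQ), em_conj h5 h5I (ok_EL Q hQ) i5 rfl,
      ← em_mul (okM_pcomp h5 (okM_pcomp (ok_EL Q hQ) h5I)) (ok_EL Q hQ), h1]
  · rintro _ ⟨P, hP, rfl⟩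
    have h : (EL.all fun P => EL.any fun Q => Nat.beq (pcomp (pcomp s3P (pcomp Q s3I)) Q) P) = true := by
      decide +kernel
    obtain ⟨Q, hQ, h1⟩ := List.any_eq_true.1 (List.all_eq_true.1 h P hP)
    have h1 := Nat.eq_of_beq_eq_true h1
    refine ⟨em Q, em_mem_E22 hQ, ?_⟩
    rw [inv' _ (em_mem_E22 hQ), em_conj h3 h3I (ok_EL Q hQ) i3 rfl,
      ← em_mul (okM_pcomp h3 (okM_pcomp (ok_EL Q hQ) h3I)) (ok_EL Q hQ), h1]

/-- the involutions of `E22` are conjugate to `x₀` -/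
theorem E22_conj : ∀ e ∈ E22, e ≠ 1 → ∃ c : Spor.M22, c * em x0P * c⁻¹ = e := by
  rintro _ ⟨P, hP, rfl⟩ hne
  have h : (EL.all fun P => Nat.beq P idP || CJ.any fun C => Nat.beq (pcomp C x0P) (pcomp P C)) = true := by
    decide +kernel
  have h1 := List.all_eq_true.1 h P hP
  rw [Bool.or_eq_true] at h1
  rcases h1 with h1 | h1
  · exfalso
    rw [Nat.eq_of_beq_eq_true h1, em_one] at hne
    exact hne rfl
  · obtain ⟨C, hC, h2⟩ := List.any_eq_true.1 h1
    exact ⟨em C, em_conj' (ok_CJ C hC) ok_data.1 (ok_EL P hP) (Nat.eq_of_beq_eq_true h2)⟩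

theorem E22_comm : ∀ a ∈ E22, ∀ b ∈ E22, a * b = b * a := by
  intro a ha b hb
  have sq := f53.sq
  have h1 := sq _ (E22.mul_mem ha hb)
  have h2 := sq _ ha
  have h3 := sq _ hb
  have e1 : a⁻¹ = a := by rw [inv_eq_iff_mul_eq_one, ← pow_two, h2]
  have e2 : b⁻¹ = b := by rw [inv_eq_iff_mul_eq_one, ← pow_two, h3]
  have e3 : (a * b)⁻¹ = a * b := by rw [inv_eq_iff_mul_eq_one, ← pow_two, h1]
  rw [mul_inv_rev, e1, e2] at e3
  exact e3.symm

/-- everything fixes the points 1 and 2 -/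
theorem E22_le_st : E22 ≤ st (pt 1) ⊓ st (pt 2) := by
  rintro _ ⟨P, hP, rfl⟩
  have h : (EL.all fun P => Nat.beq (papp P 1) 1 && Nat.beq (papp P 2) 2) = true := by decide +kernel
  have h1 := List.all_eq_true.1 h P hP
  rw [Bool.and_eq_true] at h1
  exact ⟨em_mem_st (ok_EL P hP) (by norm_num) (Nat.eq_of_beq_eq_true h1.1),
    em_mem_st (ok_EL P hP) (by norm_num) (Nat.eq_of_beq_eq_true h1.2)⟩

theorem s5_mem : em s5P ∈ st (pt 1) ⊓ st (pt 2) :=
  ⟨em_mem_st ok_data.2.2.2.1 (by norm_num) (by decide +kernel), em_mem_st ok_data.2.2.2.1 (by norm_num) (by decide +kernel)⟩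

theorem s3_mem : em s3P ∈ st (pt 1) ⊓ st (pt 2) :=
  ⟨em_mem_st ok_data.2.2.2.2.2.1 (by norm_num) (by decide +kernel),
    em_mem_st ok_data.2.2.2.2.2.1 (by norm_num) (by decide +kernel)⟩

end Cfsg.Agent.H13.M22
end
end

-- part: H13/M22/Twelve
section
prune_inst 0x1100010005000000000000000200000420000002004000000060010009408040000200013030040080000c8020080040000001000020000000000000000001000000000210000000000000000080000000000000000000000000000000000000000000000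
set_option linter.all false
open scoped Cfsg.Agent.FastGrp

/-!
# `M22` has no projective representation of degree twelve in odd characteristic (helper13)
-/

set_option autoImplicit false
set_option linter.unusedSectionVars false

namespace Cfsg.Agent.H13.M22

open Module Cfsg Cfsg.Agent.H906.Wt Cfsg.Agent.SporadicA.GolayBase Cfsg.Agent.SporadicA.GolayPerm
open Cfsg.Agent.SporadicStructure.M24El Cfsg.Agent.H921.Spor Cfsg.Agent.H921.Spor.M24

section

variable {L Ω V : Type*} [Group L] [Finite L] [Field Ω] [IsAlgClosed Ω] [AddCommGroup V] [Module Ω V]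
  [FiniteDimensional Ω V] {φ : L →* Spor.M22} {ρ : L →* Module.End Ω V}

/-- traces of the lifts of the involutions of `E22` -/
theorem tr_E (h : Cov φ ρ) (h2 : (2 : Ω) ≠ 0) (hn : finrank Ω V ≤ 13) (hn8 : 8 ≤ finrank Ω V) {a : L}
    (ha : φ a ∈ E22) (hne : φ a ≠ 1) : ∃ μ : Ω, μ ≠ 0 ∧ ρ (a ^ 2) = (μ ^ 2) • 1 ∧
      LinearMap.trace Ω V (ρ a) = ((finrank Ω V : Ω) - 8) * μ := by
  obtain ⟨c, hc⟩ := E22_conj _ ha hne
  obtain ⟨c, rfl⟩ := h.surj c
  obtain ⟨k, hk⟩ := h.surj (em sP)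
  have hg : φ (c⁻¹ * a * c) = em x0P := by
    rw [map_mul, map_mul, map_inv, ← hc]
    group
  obtain ⟨μ, m1, m2, m3, -⟩ := (frob7 h h2 fr7 hg hk hn).2 hn8
  refine ⟨μ, m1, ?_, ?_⟩
  · obtain ⟨d, hd⟩ := h.scal (a ^ 2) (by rw [MonoidHom.mem_ker, map_pow, f53.sq _ ha])
    have e1 : (c⁻¹ * a * c) ^ 2 = a ^ 2 := by
      have e2 : (c⁻¹ * a * c) ^ 2 = c⁻¹ * a ^ 2 * c := by
        rw [pow_two, pow_two]; group
      have e3 := h.comm (z := a ^ 2) (by rw [MonoidHom.mem_ker, map_pow, f53.sq _ ha]) c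
      rw [e2, mul_assoc, e3, inv_mul_cancel_left]
    rw [← m2, e1]
  · rw [← m3]
    have := trace_conj (ρ := ρ) c⁻¹ a
    rw [inv_inv] at this
    exact this.symm

/-- the preimage of `E22` is abelian -/
theorem E_ab (h : Cov φ ρ) (h2 : (2 : Ω) ≠ 0) (hn : finrank Ω V = 10 ∨ finrank Ω V = 12) :
    ∀ a ∈ E22.comap φ, ∀ b ∈ E22.comap φ, a * b = b * a := by
  intro a ha b hb
  by_cases h1 : φ a = 1
  · exact h.comm h1 b
  · apply h.comm_of_trace (E22_comm _ ha _ hb)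
    obtain ⟨μ, m1, -, m3⟩ := tr_E h h2 (by omega) (by omega) ha h1
    rw [m3]
    apply mul_ne_zero _ m1
    rcases hn with hn | hn
    · rw [hn]
      have : ((10 : ℕ) : Ω) - 8 = 2 := by norm_num
      rw [this]; exact h2
    · rw [hn]
      have : ((12 : ℕ) : Ω) - 8 = 2 * 2 := by norm_num
      rw [this]; exact mul_ne_zero h2 h2

/-- **no degree twelve** -/
theorem twelve_false (h : Cov φ ρ) (h2 : (2 : Ω) ≠ 0) (hn : finrank Ω V = 12) : False := by
  classical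
  have hab := E_ab h h2 (Or.inr hn)
  obtain ⟨g5, h5⟩ := h.surj (em s5P)
  obtain ⟨g3, h3⟩ := h.surj (em s3P)
  have hFT := f53.ft h hab h5 h3
  obtain ⟨χ, c1, c2, c3⟩ := hFT.twelve h.scal (f53.card h h2) (f53.not_top h) hn
  have h4 : (4 : Ω) ≠ 0 := by
    have : (4 : Ω) = 2 * 2 := by norm_num
    rw [this]; exact mul_ne_zero h2 h2
  have hn12 : (finrank Ω V : Ω) - 8 = 4 := by rw [hn]; norm_num
  have trne : ∀ a : L, φ a ∈ E22 → φ a ≠ 1 → LinearMap.trace Ω V (ρ a) ≠ 0 := by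
    intro a ha hne
    obtain ⟨μ, m1, -, m3⟩ := tr_E h h2 (by omega) (by omega) ha hne
    rw [m3, hn12]
    exact mul_ne_zero h4 m1
  -- the function `θ`
  let θ : ∀ a : L, a ∈ E22.comap φ → Ω := fun a ha => 4 * (χ ⟨a, ha⟩ : Ω) * (LinearMap.trace Ω V (ρ a))⁻¹
  have θeq : ∀ (a : L) (ha : a ∈ E22.comap φ), φ a ≠ 1 →
      4 * (χ ⟨a, ha⟩ : Ω) = θ a ha * LinearMap.trace Ω V (ρ a) := by
    intro a ha hne
    change _ = 4 * (χ ⟨a, ha⟩ : Ω) * (LinearMap.trace Ω V (ρ a))⁻¹ * _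
    rw [inv_mul_cancel_right₀ (trne a ha hne)]
  obtain ⟨v, hv, hv0⟩ := (Submodule.ne_bot_iff _).1 c2
  have kerχ : ∀ (z : L) (hz : z ∈ φ.ker) (hzA : z ∈ E22.comap φ) (c : Ω), ρ z = c • 1 → (χ ⟨z, hzA⟩ : Ω) = c := by
    intro z hz hzA c hc
    have e1 := mem_W.1 hv ⟨z, hzA⟩
    change ρ z v = _ at e1
    rw [hc, LinearMap.smul_apply, Module.End.one_apply] at e1
    have e3 : (c - (χ ⟨z, hzA⟩ : Ω)) • v = 0 := by rw [sub_smul, e1, sub_self]
    exact (sub_eq_zero.1 ((smul_eq_zero.1 e3).resolve_right hv0)).symm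
  have θsq : ∀ (a : L) (ha : a ∈ E22.comap φ), φ a ≠ 1 → θ a ha ^ 2 = 1 := by
    intro a ha hne
    obtain ⟨μ, m1, m2, m3⟩ := tr_E h h2 (by omega) (by omega) ha hne
    have e1 : (χ ⟨a, ha⟩ : Ω) ^ 2 = μ ^ 2 := by
      rw [← Units.val_pow_eq_pow_val, ← map_pow]
      exact kerχ (a ^ 2) (by rw [MonoidHom.mem_ker, map_pow, f53.sq _ ha]) _ _ m2
    change (4 * (χ ⟨a, ha⟩ : Ω) * (LinearMap.trace Ω V (ρ a))⁻¹) ^ 2 = 1
    rw [m3, hn12, mul_pow, mul_pow, e1, ← mul_pow, inv_pow, mul_inv_cancel₀]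
    exact pow_ne_zero _ (mul_ne_zero h4 m1)
  have θker : ∀ (a b : L) (ha : a ∈ E22.comap φ) (hb : b ∈ E22.comap φ), φ a = φ b → θ a ha = θ b hb := by
    intro a b ha hb hab'
    obtain ⟨z, hz, rfl⟩ := h.exists_eq hab'
    obtain ⟨c, hc⟩ := h.scal z hz
    have hzA : z ∈ E22.comap φ := by
      change φ z ∈ E22
      rw [(MonoidHom.mem_ker).1 hz]; exact E22.one_mem
    have hc0 : c ≠ 0 := by
      rw [← kerχ z hz hzA c hc]
      exact (χ _).ne_zero
    have e1 : (χ ⟨z * b, ha⟩ : Ω) = c * (χ ⟨b, hb⟩ : Ω) := by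
      rw [← kerχ z hz hzA c hc, ← Units.val_mul, ← map_mul]
      rfl
    have e2 : LinearMap.trace Ω V (ρ (z * b)) = c * LinearMap.trace Ω V (ρ b) := by
      rw [map_mul, hc, smul_mul_assoc, one_mul, map_smul, smul_eq_mul]
    change 4 * (χ ⟨z * b, ha⟩ : Ω) * (LinearMap.trace Ω V (ρ (z * b)))⁻¹ = 4 * (χ ⟨b, hb⟩ : Ω) * (LinearMap.trace Ω V (ρ b))⁻¹
    rw [e1, e2, mul_inv]
    field_simp
  have θ5 : ∀ (a : L) (ha : a ∈ E22.comap φ) (ha' : g5 * a * g5⁻¹ ∈ E22.comap φ),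
      θ (g5 * a * g5⁻¹) ha' = θ a ha := by
    intro a ha ha'
    have e1 := (sg_eq_self hFT.n5).1 c1 ⟨a, ha⟩
    have e2 : (χ ⟨g5 * a * g5⁻¹, ha'⟩ : Ω) = (χ ⟨a, ha⟩ : Ω) := congrArg Units.val e1
    change 4 * (χ ⟨g5 * a * g5⁻¹, ha'⟩ : Ω) * (LinearMap.trace Ω V (ρ (g5 * a * g5⁻¹)))⁻¹ =
      4 * (χ ⟨a, ha⟩ : Ω) * (LinearMap.trace Ω V (ρ a))⁻¹
    rw [trace_conj, e2]
  -- the function `ε` on `E22`
  choose lf hlf using h.surj
  have lfA : ∀ t ∈ E22, lf t ∈ E22.comap φ := by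
    intro t ht
    change φ (lf t) ∈ E22
    rw [hlf]; exact ht
  let εT : Spor.M22 → Ω := fun t => if ht : t ∈ E22 then θ (lf t) (lfA t ht) else 0
  have εθ : ∀ (a : L) (ha : a ∈ E22.comap φ), θ a ha = εT (φ a) := by
    intro a ha
    have ha' : φ a ∈ E22 := ha
    change _ = if ht : φ a ∈ E22 then θ (lf (φ a)) (lfA _ ht) else 0
    rw [dif_pos ha']
    exact θker _ _ _ _ (hlf _).symm
  have ε5 : ∀ t ∈ E22, εT (em s5P * t * (em s5P)⁻¹) = εT t := by
    intro t ht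
    have e1 := (f53.n5 t).1 ht
    have hA := lfA t ht
    have hA' : g5 * lf t * g5⁻¹ ∈ E22.comap φ := (hFT.n5 _).1 hA
    have e2 := θ5 _ hA hA'
    rw [εθ, εθ, map_mul, map_mul, map_inv, h5, hlf] at e2
    exact e2
  let ev : ℕ → Ω := fun i => εT (em (EL.getD i idP))
  obtain ⟨-, okS, -, ok5, ok5I, ok3, ok3I, okk⟩ := ok_data
  have i5 : pcomp s5P s5I = idP := by decide +kernel
  have i3 : pcomp s3P s3I = idP := by decide +kernel
  have okE : ∀ i, okM (EL.getD i idP) = true := by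
    intro i
    by_cases hi : i < EL.length
    · rw [List.getD_eq_getElem _ _ hi]
      exact ok_EL _ (List.getElem_mem hi)
    · rw [List.getD_eq_default _ _ (by omega)]
      exact okM_idP
  have memE : ∀ i, em (EL.getD i idP) ∈ E22 := by
    intro i
    by_cases hi : i < EL.length
    · rw [List.getD_eq_getElem _ _ hi]
      exact em_mem_E22 (List.getElem_mem hi)
    · rw [List.getD_eq_default _ _ (by omega), em_one]
      exact E22.one_mem
  have step : ∀ i, pcomp s5P (pcomp (EL.getD i idP) s5I) = EL.getD (i + 1) idP → ev (i + 1) = ev i := by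
    intro i hi
    have e1 := em_conj ok5 ok5I (okE i) i5 hi
    change εT (em (EL.getD (i + 1) idP)) = εT (em (EL.getD i idP))
    rw [← e1]
    exact ε5 _ (memE i)
  have v2 : ev 2 = ev 1 := step 1 (by decide +kernel)
  have v3 : ev 3 = ev 2 := step 2 (by decide +kernel)
  have v7 : ev 7 = ev 6 := step 6 (by decide +kernel)
  have v8 : ev 8 = ev 7 := step 7 (by decide +kernel)
  have v9 : ev 9 = ev 8 := step 8 (by decide +kernel)
  have v10 : ev 10 = ev 9 := step 9 (by decide +kernel)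
  have v12 : ev 12 = ev 11 := step 11 (by decide +kernel)
  have v13 : ev 13 = ev 12 := step 12 (by decide +kernel)
  have v14 : ev 14 = ev 13 := step 13 (by decide +kernel)
  have ne1 : ∀ i, 1 ≤ i → i ≤ 15 → em (EL.getD i idP) ≠ 1 := by
    intro i h1 h15
    have hall : ((List.range 16).all fun i => Nat.beq i 0 || (List.range 24).any fun j =>
      !Nat.beq (papp (EL.getD i idP) j) j) = true := by decide +kernel
    have h3 := List.all_eq_true.1 hall i (List.mem_range.2 (by omega))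
    rw [Bool.or_eq_true] at h3
    rcases h3 with h3 | h3
    · have := Nat.eq_of_beq_eq_true h3
      omega
    · obtain ⟨j, hj, h4⟩ := List.any_eq_true.1 h3
      refine em_ne_one (okE i) (List.mem_range.1 hj) ?_
      intro h5
      rw [h5] at h4
      simp at h4
  have evsq : ∀ i, 1 ≤ i → i ≤ 15 → ev i ^ 2 = 1 := by
    intro i h1 h15
    have hA := lfA _ (memE i)
    have e1 := θsq (lf (em (EL.getD i idP))) hA (by rw [hlf]; exact ne1 i h1 h15)
    rw [εθ, hlf] at e1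
    exact e1
  -- (C)
  have hC : ev 1 + ev 6 + ev 11 = 1 := by
    have hA := lfA _ (memE 1)
    set a := lf (em (EL.getD 1 idP)) with ha
    have hφa : φ a = em (EL.getD 1 idP) := hlf _
    have hane : φ a ≠ 1 := by rw [hφa]; exact ne1 1 (by norm_num) (by norm_num)
    have e1 := c3 ⟨a, hA⟩
    change LinearMap.trace Ω V (ρ a) = _ at e1
    have key : ∀ i ∈ Finset.range 5, 4 * ((((sg Ω hFT.n5) ^ i) (sg Ω hFT.n3 χ)) ⟨a, hA⟩ : Ω) =
        ev (([6, 3, 10, 14, 12] : List ℕ).getD i 0) * LinearMap.trace Ω V (ρ a) := by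
      intro i hi
      have hi' := Finset.mem_range.1 hi
      have e2 : (sg Ω hFT.n5) ^ i = sg Ω (hFT.n5.pow i) := (sg_pow hFT.n5 i (hFT.n5.pow i)).symm
      rw [e2, sg_apply, sg_apply]
      have hb : g3⁻¹ * ((g5 ^ i)⁻¹ * a * g5 ^ i) * g3 ∈ E22.comap φ := hFT.n3.inv_mem ((hFT.n5.pow i).inv_mem hA)
      have htr : LinearMap.trace Ω V (ρ (g3⁻¹ * ((g5 ^ i)⁻¹ * a * g5 ^ i) * g3)) = LinearMap.trace Ω V (ρ a) := by
        have t1 := trace_conj (ρ := ρ) g3⁻¹ ((g5 ^ i)⁻¹ * a * g5 ^ i)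
        have t2 := trace_conj (ρ := ρ) (g5 ^ i)⁻¹ a
        rw [inv_inv] at t1 t2
        rw [t1, t2]
      have hφb : φ (g3⁻¹ * ((g5 ^ i)⁻¹ * a * g5 ^ i) * g3) = em (EL.getD (([6, 3, 10, 14, 12] : List ℕ).getD i 0) idP) := by
        rw [map_mul, map_mul, map_mul, map_mul, map_inv, map_inv, map_pow, h5, h3, hφa,
          ← em_inv ok3 ok3I i3]
        have e3 : (em s5P ^ i)⁻¹ = em (ppow s5I i) := by
          rw [em_ppow ok5I, em_inv ok5 ok5I i5, inv_pow]
        rw [e3, ← em_ppow ok5, ← em_mul (okM_ppow ok5I i) (okE 1),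
          ← em_mul (okM_pcomp (okM_ppow ok5I i) (okE 1)) (okM_ppow ok5 i),
          ← em_mul ok3I (okM_pcomp (okM_pcomp (okM_ppow ok5I i) (okE 1)) (okM_ppow ok5 i)),
          ← em_mul (okM_pcomp ok3I (okM_pcomp (okM_pcomp (okM_ppow ok5I i) (okE 1)) (okM_ppow ok5 i))) ok3]
        have hall : ((List.range 5).all fun i => Nat.beq
          (pcomp (pcomp s3I (pcomp (pcomp (ppow s5I i) (EL.getD 1 idP)) (ppow s5P i))) s3P)
          (EL.getD (([6, 3, 10, 14, 12] : List ℕ).getD i 0) idP)) = true := by decide +kernel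
        rw [Nat.eq_of_beq_eq_true (List.all_eq_true.1 hall i (List.mem_range.2 hi'))]
      have hbne : φ (g3⁻¹ * ((g5 ^ i)⁻¹ * a * g5 ^ i) * g3) ≠ 1 := by
        intro h0
        apply hane
        have : φ a = φ g5 ^ i * (φ g3 * φ (g3⁻¹ * ((g5 ^ i)⁻¹ * a * g5 ^ i) * g3) * (φ g3)⁻¹) * (φ g5 ^ i)⁻¹ := by
          simp only [map_mul, map_inv, map_pow]
          group
        rw [this, h0]
        group
      have e4 := θeq _ hb hbne
      rw [εθ, hφb, htr] at e4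
      exact e4
    have e5 := θeq a hA hane
    rw [εθ, hφa] at e5
    have e6 : 4 * (χ ⟨a, hA⟩ : Ω) = ev 1 * LinearMap.trace Ω V (ρ a) := e5
    have e7 : ∑ i ∈ Finset.range 5, 4 * ((((sg Ω hFT.n5) ^ i) (sg Ω hFT.n3 χ)) ⟨a, hA⟩ : Ω) =
        ∑ i ∈ Finset.range 5, ev (([6, 3, 10, 14, 12] : List ℕ).getD i 0) * LinearMap.trace Ω V (ρ a) :=
      Finset.sum_congr rfl key
    rw [← Finset.mul_sum] at e7 e1
    have e8 : ∑ i ∈ Finset.range 5, ev (([6, 3, 10, 14, 12] : List ℕ).getD i 0) * LinearMap.trace Ω V (ρ a) =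
        (ev 6 + ev 3 + ev 10 + ev 14 + ev 12) * LinearMap.trace Ω V (ρ a) := by
      simp only [Finset.sum_range_succ, Finset.sum_range_zero]
      change 0 + ev 6 * _ + ev 3 * _ + ev 10 * _ + ev 14 * _ + ev 12 * _ = _
      ring
    rw [e8] at e7
    have hne0 := trne a hA hane
    generalize hS : ∑ i ∈ Finset.range 5, ((((sg Ω hFT.n5) ^ i) (sg Ω hFT.n3 χ)) ⟨a, hA⟩ : Ω) = S at e1 e7
    generalize (χ ⟨a, hA⟩ : Ω) = X at e1 e6
    generalize LinearMap.trace Ω V (ρ a) = t at e1 e6 e7 hne0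
    have h9 : 2 * (ev 1 + ev 6 + ev 11 - 1) * t = 0 := by
      rw [v3, v2, v10, v9, v8, v7, v14, v13, v12] at e7
      linear_combination (-2 : Ω) * e1 - e6 - e7
    rcases mul_eq_zero.1 h9 with h9 | h9
    · rcases mul_eq_zero.1 h9 with h9 | h9
      · exact absurd h9 h2
      · linear_combination h9
    · exact absurd h9 hne0
  -- products
  have χmul : ∀ (a b : L) (ha : a ∈ E22.comap φ) (hb : b ∈ E22.comap φ) (hab : a * b ∈ E22.comap φ),
      (χ ⟨a * b, hab⟩ : Ω) = (χ ⟨a, ha⟩ : Ω) * (χ ⟨b, hb⟩ : Ω) := by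
    intro a b ha hb hab
    rw [← Units.val_mul, ← map_mul]
    rfl
  -- (B)
  have hB : ev 6 = 1 := by
    obtain ⟨k, hk⟩ := h.surj (em sP)
    have e10 : EL.getD 10 idP = x0P := by decide
    have hA := lfA _ (memE 10)
    set a := lf (em (EL.getD 10 idP)) with ha
    have hφa : φ a = em (EL.getD 10 idP) := hlf _
    have hφx : φ a = em x0P := by rw [hφa, e10]
    obtain ⟨μ, m1, m2, m3, m4⟩ := (frob7 h h2 fr7 hφx hk (by omega)).2 (by omega)
    rw [hn12] at m3 m4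
    have hφb : φ (k * a * k⁻¹) = em (EL.getD 11 idP) := by
      rw [map_mul, map_mul, map_inv, hk, hφa]
      exact em_conj' okS (okE 10) (okE 11) (by decide +kernel)
    have hφab : φ (a * (k * a * k⁻¹)) = em (EL.getD 14 idP) := by
      rw [map_mul, hφb, hφa, ← em_mul (okE 10) (okE 11)]
      have : pcomp (EL.getD 10 idP) (EL.getD 11 idP) = EL.getD 14 idP := by decide +kernel
      rw [this]
    have hb : k * a * k⁻¹ ∈ E22.comap φ := by
      change φ _ ∈ E22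
      rw [hφb]; exact memE 11
    have hab' : a * (k * a * k⁻¹) ∈ E22.comap φ := by
      change φ _ ∈ E22
      rw [hφab]; exact memE 14
    have t1 := θeq a hA (by rw [hφa]; exact ne1 10 (by norm_num) (by norm_num))
    have t2 := θeq _ hb (by rw [hφb]; exact ne1 11 (by norm_num) (by norm_num))
    have t3 := θeq _ hab' (by rw [hφab]; exact ne1 14 (by norm_num) (by norm_num))
    rw [εθ, hφa, m3] at t1
    rw [εθ, hφb, trace_conj, m3] at t2
    rw [εθ, hφab, m4, χmul a _ hA hb hab'] at t3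
    have t1' : 4 * (χ ⟨a, hA⟩ : Ω) = ev 10 * (4 * μ) := t1
    have t2' : 4 * (χ ⟨k * a * k⁻¹, hb⟩ : Ω) = ev 11 * (4 * μ) := t2
    have t3' : 4 * ((χ ⟨a, hA⟩ : Ω) * (χ ⟨k * a * k⁻¹, hb⟩ : Ω)) = ev 14 * (4 * μ ^ 2) := t3
    generalize (χ ⟨a, hA⟩ : Ω) = X at t1' t3'
    generalize (χ ⟨k * a * k⁻¹, hb⟩ : Ω) = Y at t2' t3'
    have w1 : 16 * μ ^ 2 * (ev 14 - ev 10 * ev 11) = 0 := by
      linear_combination (4 * Y) * t1' + (ev 10 * 4 * μ) * t2' - 4 * t3'
    have w2 : (16 * μ ^ 2 : Ω) ≠ 0 := by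
      have : (16 : Ω) = 4 * 4 := by norm_num
      rw [this]
      exact mul_ne_zero (mul_ne_zero h4 h4) (pow_ne_zero _ m1)
    have w3 : ev 14 = ev 10 * ev 11 := sub_eq_zero.1 ((mul_eq_zero.1 w1).resolve_left w2)
    rw [v14, v13, v12, v10, v9, v8, v7] at w3
    have w4 := evsq 11 (by norm_num) (by norm_num)
    linear_combination (-(ev 11)) * w3 + (1 - ev 6) * w4
  -- (A')
  have hA' : ev 1 * ev 11 = 1 := by
    obtain ⟨k, hk⟩ := h.surj (em kP)
    have hAa := lfA _ (memE 1)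
    have hAb := lfA _ (memE 7)
    set a := lf (em (EL.getD 1 idP)) with ha
    set b := lf (em (EL.getD 7 idP)) with hb
    have hφa : φ a = em (EL.getD 1 idP) := hlf _
    have hφb : φ b = em (EL.getD 7 idP) := hlf _
    have hφab : φ (a * b) = em (EL.getD 10 idP) := by
      rw [map_mul, hφb, hφa, ← em_mul (okE 1) (okE 7)]
      have : pcomp (EL.getD 1 idP) (EL.getD 7 idP) = EL.getD 10 idP := by decide +kernel
      rw [this]
    have ka : φ (k * a * k⁻¹) = em (EL.getD 6 idP) := by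
      rw [map_mul, map_mul, map_inv, hk, hφa]
      exact em_conj' okk (okE 1) (okE 6) (by decide +kernel)
    have kb : φ (k * b * k⁻¹) = em (EL.getD 7 idP) := by
      rw [map_mul, map_mul, map_inv, hk, hφb]
      exact em_conj' okk (okE 7) (okE 7) (by decide +kernel)
    have kab : φ ((k * a * k⁻¹) * (k * b * k⁻¹)) = em (EL.getD 14 idP) := by
      rw [map_mul, ka, kb, ← em_mul (okE 6) (okE 7)]
      have : pcomp (EL.getD 6 idP) (EL.getD 7 idP) = EL.getD 14 idP := by decide +kernel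
      rw [this]
    have mab : a * b ∈ E22.comap φ := Subgroup.mul_mem _ hAa hAb
    have mka : k * a * k⁻¹ ∈ E22.comap φ := by
      change φ _ ∈ E22
      rw [ka]; exact memE 6
    have mkb : k * b * k⁻¹ ∈ E22.comap φ := by
      change φ _ ∈ E22
      rw [kb]; exact memE 7
    have mkab := Subgroup.mul_mem _ mka mkb
    have nea : φ a ≠ 1 := by rw [hφa]; exact ne1 1 (by norm_num) (by norm_num)
    have neb : φ b ≠ 1 := by rw [hφb]; exact ne1 7 (by norm_num) (by norm_num)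
    have neab : φ (a * b) ≠ 1 := by rw [hφab]; exact ne1 10 (by norm_num) (by norm_num)
    have t1 := θeq a hAa nea
    have t2 := θeq b hAb neb
    have t3 := θeq _ mab neab
    have t4 := θeq _ mka (by rw [ka]; exact ne1 6 (by norm_num) (by norm_num))
    have t5 := θeq _ mkb (by rw [kb]; exact ne1 7 (by norm_num) (by norm_num))
    have t6 := θeq _ mkab (by rw [kab]; exact ne1 14 (by norm_num) (by norm_num))
    have tk : LinearMap.trace Ω V (ρ ((k * a * k⁻¹) * (k * b * k⁻¹))) = LinearMap.trace Ω V (ρ (a * b)) := by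
      have : (k * a * k⁻¹) * (k * b * k⁻¹) = k * (a * b) * k⁻¹ := by group
      rw [this]
      exact trace_conj _ _
    rw [εθ, hφa] at t1
    rw [εθ, hφb] at t2
    rw [εθ, hφab, χmul a b hAa hAb mab] at t3
    rw [εθ, ka, trace_conj] at t4
    rw [εθ, kb, trace_conj] at t5
    rw [εθ, kab, tk, χmul _ _ mka mkb mkab] at t6
    have n1 := trne a hAa nea
    have n2 := trne b hAb neb
    have n3 := trne _ mab neab
    have t1' : 4 * (χ ⟨a, hAa⟩ : Ω) = ev 1 * _ := t1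
    have t2' : 4 * (χ ⟨b, hAb⟩ : Ω) = ev 7 * _ := t2
    have t3' : 4 * ((χ ⟨a, hAa⟩ : Ω) * (χ ⟨b, hAb⟩ : Ω)) = ev 10 * _ := t3
    have t4' : 4 * (χ ⟨k * a * k⁻¹, mka⟩ : Ω) = ev 6 * _ := t4
    have t5' : 4 * (χ ⟨k * b * k⁻¹, mkb⟩ : Ω) = ev 7 * _ := t5
    have t6' : 4 * ((χ ⟨k * a * k⁻¹, mka⟩ : Ω) * (χ ⟨k * b * k⁻¹, mkb⟩ : Ω)) = ev 14 * _ := t6
    generalize (χ ⟨a, hAa⟩ : Ω) = X at t1' t3'
    generalize (χ ⟨b, hAb⟩ : Ω) = Y at t2' t3'
    generalize (χ ⟨k * a * k⁻¹, mka⟩ : Ω) = X' at t4' t6'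
    generalize (χ ⟨k * b * k⁻¹, mkb⟩ : Ω) = Y' at t5' t6'
    generalize LinearMap.trace Ω V (ρ a) = ta at t1' t4' n1
    generalize LinearMap.trace Ω V (ρ b) = tb at t2' t5' n2
    generalize LinearMap.trace Ω V (ρ (a * b)) = tab at t3' t6' n3
    rw [v7, hB, one_mul] at t2' t5'
    rw [v10, v9, v8, v7, hB, one_mul] at t3'
    rw [hB, one_mul] at t4'
    rw [v14, v13, v12] at t6'
    -- `ev 1 ta tb = 4 tab`, `ta tb = 4 ev 11 tab`
    have w1 : ev 1 * ta * tb = 4 * tab := by linear_combination 4 * t3' - (4 * Y) * t1' - (ev 1 * ta) * t2'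
    have w2 : ta * tb = 4 * (ev 11 * tab) := by linear_combination 4 * t6' - (4 * Y') * t4' - ta * t5'
    have w3 : 4 * tab * (ev 1 * ev 11 - 1) = 0 := by linear_combination w1 - ev 1 * w2
    exact sub_eq_zero.1 ((mul_eq_zero.1 w3).resolve_left (mul_ne_zero h4 n3))
  have q1 := evsq 1 (by norm_num) (by norm_num)
  have q2 : ev 11 = ev 1 := by linear_combination (ev 1) * hA' - (ev 11) * q1
  have q3 : 2 * ev 1 = 0 := by
    rw [hB, q2] at hC
    linear_combination hC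
  have q4 : ev 1 = 0 := (mul_eq_zero.1 q3).resolve_left h2
  rw [q4] at q1
  norm_num at q1

end

end Cfsg.Agent.H13.M22
end
end
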