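import Cfsg.Agent.H13.M22.Twelve
import Cfsg.Agent.S0380
import Cfsg.Agent.S0378
import Cfsg.Agent.SporadicStructure.M23Index253
import Cfsg.Agent.FastGrp
import Cfsg.Agent.Prune
set_option linter.all false
prune_inst 0x7f00000000000000000000000000000000000000000000000000000000000000000000000000000000000000000000000000000000000000000000000000000000000000000000000000000000000000003fffffffffffffffffffffffffffbeffbdffffffff
open scoped Cfsg.Agent.FastGrp

/-!
# Point stabilisers of `M22` (helper13)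
-/

set_option autoImplicit false
set_option linter.unusedSectionVars false

namespace Cfsg.Agent.H13.M22

open Cfsg Cfsg.Agent.SporadicA.GolayBase Cfsg.Agent.SporadicA.GolayPerm
open Cfsg.Agent.SporadicStructure.M24El Cfsg.Agent.H921.Spor Cfsg.Agent.H921.Spor.M24

theorem mem_M22_iff {g : Equiv.Perm GolayPt} : g ∈ Spor.M22 ↔ g ∈ M24 ∧ g none = none ∧ g (some 0) = some 0 := by
  constructor
  · rintro ⟨⟨h1, h2⟩, h3⟩
    exact ⟨h1, h2, h3⟩
  · rintro ⟨h1, h2, h3⟩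
    exact ⟨⟨h1, h2⟩, h3⟩

theorem mem_st {p : GolayPt} {g : Spor.M22} : g ∈ st p ↔ (g : Equiv.Perm GolayPt) p = p := Iff.rfl

/-- four-transitivity -/
theorem exists_four {a b c d : GolayPt} (ha : a ≠ none) (ha' : a ≠ some 0) (hb : b ≠ none) (hb' : b ≠ some 0)
    (hab : a ≠ b) (hc : c ≠ none) (hc' : c ≠ some 0) (hd : d ≠ none) (hd' : d ≠ some 0) (hcd : c ≠ d) :
    ∃ m : Spor.M22, (m : Equiv.Perm GolayPt) a = c ∧ (m : Equiv.Perm GolayPt) b = d := by
  have inj : ∀ a b : GolayPt, a ≠ none → a ≠ some 0 → b ≠ none → b ≠ some 0 → a ≠ b →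
      Function.Injective (![none, some 0, a, b] : Fin 4 → GolayPt) := by
    intro a b ha ha' hb hb' hab i j hij
    fin_cases i <;> fin_cases j <;> simp at hij ⊢
    all_goals first
      | exact ha hij
      | exact ha hij.symm
      | exact ha' hij
      | exact ha' hij.symm
      | exact hb hij
      | exact hb hij.symm
      | exact hb' hij
      | exact hb' hij.symm
      | exact hab hij
      | exact hab hij.symm
  obtain ⟨g, hg⟩ := SporadicStructure.M23Index253.exists_map S0366.result (n := 4) (by norm_num)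
    ![none, some 0, a, b] ![none, some 0, c, d] (inj a b ha ha' hb hb' hab) (inj c d hc hc' hd hd' hcd)
  exact ⟨⟨g, mem_M22_iff.2 ⟨g.2, hg 0, hg 1⟩⟩, hg 2, hg 3⟩

theorem pt1 : pt 1 ≠ none ∧ pt 1 ≠ some 0 ∧ pt 2 ≠ none ∧ pt 2 ≠ some 0 ∧ pt 1 ≠ pt 2 ∧ pt 3 ≠ none ∧
    pt 3 ≠ some 0 ∧ pt 3 ≠ pt 1 ∧ pt 3 ≠ pt 2 := by decide

/-- two point stabilisers generate -/
theorem st_sup : st (pt 1) ⊔ st (pt 2) = ⊤ := by
  obtain ⟨a1, a2, b1, b2, ab, c1, c2, ca, cb⟩ := pt1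
  rw [eq_top_iff]
  intro g _
  set H := st (pt 1) ⊔ st (pt 2) with hH
  have l1 : st (pt 1) ≤ H := le_sup_left
  have l2 : st (pt 2) ≤ H := le_sup_right
  -- there is `h ∈ H` with `h a = g a`
  have hg := mem_M22_iff.1 g.2
  have n1 : (g : Equiv.Perm GolayPt) (pt 1) ≠ none := fun h0 => a1 ((g : Equiv.Perm GolayPt).injective (h0.trans hg.2.1.symm))
  have n2 : (g : Equiv.Perm GolayPt) (pt 1) ≠ some 0 := fun h0 => a2 ((g : Equiv.Perm GolayPt).injective (h0.trans hg.2.2.symm))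
  obtain ⟨h, hh, hha⟩ : ∃ h ∈ H, (h : Equiv.Perm GolayPt) (pt 1) = (g : Equiv.Perm GolayPt) (pt 1) := by
    by_cases h0 : (g : Equiv.Perm GolayPt) (pt 1) = pt 2
    · obtain ⟨m, m1, m2⟩ := exists_four a1 a2 b1 b2 ab c1 c2 b1 b2 cb
      obtain ⟨m', m1', m2'⟩ := exists_four c1 c2 a1 a2 ca b1 b2 a1 a2 ab.symm
      refine ⟨m' * m, H.mul_mem (l1 m2') (l2 m2), ?_⟩
      change (m' : Equiv.Perm GolayPt) ((m : Equiv.Perm GolayPt) (pt 1)) = _
      rw [m1, m1', h0]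
    · obtain ⟨m, m1, m2⟩ := exists_four a1 a2 b1 b2 ab n1 n2 b1 b2 h0
      exact ⟨m, l2 m2, m1⟩
  have h1 : h⁻¹ * g ∈ H := by
    apply l1
    rw [mem_st]
    change ((h : Equiv.Perm GolayPt)⁻¹) ((g : Equiv.Perm GolayPt) (pt 1)) = pt 1
    rw [← hha]
    exact (h : Equiv.Perm GolayPt).symm_apply_apply _
  have h2 : g = h * (h⁻¹ * g) := by group
  rw [h2]
  exact H.mul_mem hh h1

/-- point stabilisers are `PSL_3(4)` -/
theorem st_iso {p : GolayPt} (hp : p ≠ none) (hp' : p ≠ some 0) (K : Type) [Field K] [Fintype K]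
    (hK : Fintype.card K = 4) : Nonempty (st p ≃* Matrix.ProjectiveSpecialLinearGroup (Fin 3) K) := by
  obtain ⟨e⟩ := S0380.result none (some 0) p (by simp) (Ne.symm hp) (Ne.symm hp') K hK
  let f : st p ≃* ↥(MulAction.stabilizer M24 (none : GolayPt) ⊓ MulAction.stabilizer M24 (some 0 : GolayPt) ⊓
      MulAction.stabilizer M24 p) :=
    { toFun := fun g => ⟨⟨g.1.1, (mem_M22_iff.1 g.1.2).1⟩, ⟨(mem_M22_iff.1 g.1.2).2.1, (mem_M22_iff.1 g.1.2).2.2⟩, g.2⟩
      invFun := fun g => ⟨⟨g.1.1, mem_M22_iff.2 ⟨g.1.2, g.2.1.1, g.2.1.2⟩⟩, g.2.2⟩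
      left_inv := fun _ => rfl
      right_inv := fun _ => rfl
      map_mul' := fun _ _ => rfl }
  exact ⟨f.trans e⟩

theorem card_M22 : Nat.card Spor.M22 = 443520 := by
  rw [← S0378.result none (some 0) (by simp)]
  exact Nat.card_congr
    { toFun := fun g => ⟨⟨g.1, (mem_M22_iff.1 g.2).1⟩, (mem_M22_iff.1 g.2).2.1, (mem_M22_iff.1 g.2).2.2⟩
      invFun := fun g => ⟨g.1.1, mem_M22_iff.2 ⟨g.1.2, g.2.1, g.2.2⟩⟩
      left_inv := fun _ => rfl
      right_inv := fun _ => rfl }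

end Cfsg.Agent.H13.M22
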